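import Groth.Agent.LimitsH94.Approx.Glue
import Groth.Agent.SGA1Q.SigmaFinite
import Mathlib.AlgebraicGeometry.Morphisms.Etale

/-!
# Finite étale covers from Zariski cocycles with two opens
-/

universe u

open CategoryTheory CategoryTheory.Limits AlgebraicGeometry Topology TopologicalSpace

namespace Groth.Agent.EtPBC63.Core

set_option backward.isDefEq.respectTransparency false
set_option backward.isDefEq.respectTransparency.types false
set_option linter.style.haveILetI false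

theorem exists_sigmaι_eq {ι : Type u} (g : ι → Scheme.{u}) (x : ↥(∐ g)) :
    ∃ (i : ι) (y : g i), (Sigma.ι g i).base y = x := by
  obtain ⟨i, y, h⟩ := (sigmaOpenCover g).exists_eq x
  exact ⟨i, y, h⟩

/-- The torsor of a locally constant cocycle on the overlap of two opens. -/
theorem exists_torsor {Z : Scheme.{u}} (U V : Z.Opens) (hUV : U ⊔ V = ⊤) (M : Type) [AddCommGroup M] [Finite M]
    (c : Z → M) (hc : ∀ m, IsOpen {z | z ∈ U ∧ z ∈ V ∧ c z = m}) :
    ∃ (T : Scheme.{u}) (t : T ⟶ Z) (_ : IsFinite t) (_ : Etale t) (_ : Surjective t) (fU fV : T → M),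
      (∀ m, IsOpen {x | t.base x ∈ U ∧ fU x = m}) ∧ (∀ m, IsOpen {x | t.base x ∈ V ∧ fV x = m}) ∧
      ∀ x, t.base x ∈ U → t.base x ∈ V → c (t.base x) = fU x - fV x := by
  classical
  let ι := ULift.{u} M
  let κ := ULift.{u} (M × M)
  let O : κ → Z.Opens := fun p => ⟨_, hc (p.down.1 - p.down.2)⟩
  have hOU : ∀ p, O p ≤ U := fun p z hz => hz.1
  have hOV : ∀ p, O p ≤ V := fun p z hz => hz.2.1
  let P : Scheme.{u} := ∐ fun _ : ι => U.toScheme
  let Q : Scheme.{u} := ∐ fun _ : ι => V.toScheme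
  let W : Scheme.{u} := ∐ fun p : κ => (O p).toScheme
  let a : ∀ p : κ, (O p).toScheme ⟶ P := fun p =>
    Z.homOfLE (hOU p) ≫ Sigma.ι (fun _ : ι => U.toScheme) ⟨p.down.1⟩
  let b : ∀ p : κ, (O p).toScheme ⟶ Q := fun p =>
    Z.homOfLE (hOV p) ≫ Sigma.ι (fun _ : ι => V.toScheme) ⟨p.down.2⟩
  have hpt : ∀ (U' : Z.Opens) (p : κ) (hp : O p ≤ U') (x : (O p).toScheme),
      ((Z.homOfLE hp).base x).1 = x.1 := fun U' p hp x =>
    (Scheme.Hom.comp_apply _ U'.ι x).symm.trans (congr(($(Scheme.homOfLE_ι Z hp)).base x))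
  have hdisj : ∀ p p' : κ, ∀ (x : (O p).toScheme) (x' : (O p').toScheme), x.1 = x'.1 →
      (p.down.1 = p'.down.1 ∨ p.down.2 = p'.down.2) → p = p' := fun p p' x x' hx h => by
    have h1 : p.down.1 - p.down.2 = p'.down.1 - p'.down.2 := x.2.2.2.symm.trans ((congrArg c hx).trans x'.2.2.2)
    refine ULift.ext _ _ (Prod.ext ?_ ?_)
    · rcases h with h | h
      · exact h
      · rwa [h, sub_left_inj] at h1
    · rcases h with h | h
      · rwa [h, sub_right_inj] at h1
      · exact h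
  haveI : ∀ p, IsOpenImmersion (a p) := fun p => inferInstance
  haveI : ∀ p, IsOpenImmersion (b p) := fun p => inferInstance
  haveI : IsOpenImmersion (Sigma.desc a) := by
    refine isOpenImmersion_sigmaDesc _ a fun p p' hne => ?_
    refine Set.disjoint_left.mpr ?_
    rintro _ ⟨x, rfl⟩ ⟨x', hx'⟩
    refine hne ?_
    change (a p').base x' = (a p).base x at hx'
    simp only [a, Scheme.Hom.comp_apply] at hx'
    obtain ⟨hi, hy⟩ := Sigma.mk.inj_iff.mp ((sigmaι_eq_iff (fun _ : ι => U.toScheme) _ _ _ _).mp hx')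
    have h0 : p'.down.1 = p.down.1 := congrArg ULift.down hi
    refine (hdisj p' p x' x ?_ (Or.inl h0)).symm
    rw [← hpt U p' (hOU p'), ← hpt U p (hOU p)]
    exact congrArg Subtype.val (eq_of_heq hy)
  haveI : IsOpenImmersion (Sigma.desc b) := by
    refine isOpenImmersion_sigmaDesc _ b fun p p' hne => ?_
    refine Set.disjoint_left.mpr ?_
    rintro _ ⟨x, rfl⟩ ⟨x', hx'⟩
    refine hne ?_
    change (b p').base x' = (b p).base x at hx'
    simp only [b, Scheme.Hom.comp_apply] at hx'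
    obtain ⟨hi, hy⟩ := Sigma.mk.inj_iff.mp ((sigmaι_eq_iff (fun _ : ι => V.toScheme) _ _ _ _).mp hx')
    have h0 : p'.down.2 = p.down.2 := congrArg ULift.down hi
    refine (hdisj p' p x' x ?_ (Or.inr h0)).symm
    rw [← hpt V p' (hOV p'), ← hpt V p (hOV p)]
    exact congrArg Subtype.val (eq_of_heq hy)
  let g₁ : W ⟶ P := Sigma.desc a
  let g₂ : W ⟶ Q := Sigma.desc b
  let T := pushout g₁ g₂
  let dP : P ⟶ Z := Sigma.desc fun _ => U.ι
  let dQ : Q ⟶ Z := Sigma.desc fun _ => V.ι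
  have hcomm : g₁ ≫ dP = g₂ ≫ dQ := Sigma.hom_ext _ _ fun p => by
    simp [g₁, g₂, dP, dQ, a, b, Scheme.homOfLE_ι]
  let t : T ⟶ Z := pushout.desc dP dQ hcomm
  let inl : P ⟶ T := pushout.inl g₁ g₂
  let inr : Q ⟶ T := pushout.inr g₁ g₂
  have hl : inl ≫ t = dP := pushout.inl_desc _ _ _
  have hr : inr ≫ t = dQ := pushout.inr_desc _ _ _
  haveI : IsOpenImmersion inl := inferInstanceAs (IsOpenImmersion (colimit.ι _ _))
  haveI : IsOpenImmersion inr := inferInstanceAs (IsOpenImmersion (colimit.ι _ _))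
  have hcov := LimitsH94.Approx.glue_cover g₁ g₂
  let pU : ι → (U.toScheme ⟶ P) := fun m => Sigma.ι (fun _ : ι => U.toScheme) m
  let pV : ι → (V.toScheme ⟶ Q) := fun m => Sigma.ι (fun _ : ι => V.toScheme) m
  have hjP : ∀ y : P, ∃ m x, (pU m).base x = y := fun y =>
    exists_sigmaι_eq (fun _ : ι => U.toScheme) y
  have hjQ : ∀ y : Q, ∃ m x, (pV m).base x = y := fun y =>
    exists_sigmaι_eq (fun _ : ι => V.toScheme) y
  have htP : ∀ m x, t.base (inl.base ((pU m).base x)) = x.1 := fun m x => by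
    rw [← Scheme.Hom.comp_apply, ← Scheme.Hom.comp_apply, hl, Sigma.ι_desc]; rfl
  have htQ : ∀ m x, t.base (inr.base ((pV m).base x)) = x.1 := fun m x => by
    rw [← Scheme.Hom.comp_apply, ← Scheme.Hom.comp_apply, hr, Sigma.ι_desc]; rfl
  -- the two charts meet according to the cocycle
  have hmeet : ∀ m n x y, inl.base ((pU m).base x) = inr.base ((pV n).base y) → c x.1 = m.down - n.down := by
    intro m n x y e
    obtain ⟨v, hv1, hv2⟩ := LimitsH94.Approx.glue_eq g₁ g₂ e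
    obtain ⟨p, w, rfl⟩ := exists_sigmaι_eq (fun p : κ => (O p).toScheme) v
    rw [← Scheme.Hom.comp_apply, Sigma.ι_desc] at hv1 hv2
    simp only [a, b, Scheme.Hom.comp_apply] at hv1 hv2
    obtain ⟨hi, hy⟩ := Sigma.mk.inj_iff.mp ((sigmaι_eq_iff (fun _ : ι => U.toScheme) _ _ _ _).mp hv1)
    obtain ⟨hi', -⟩ := Sigma.mk.inj_iff.mp ((sigmaι_eq_iff (fun _ : ι => V.toScheme) _ _ _ _).mp hv2)
    rw [← hi, ← hi', ← congrArg Subtype.val (eq_of_heq hy), hpt]
    exact w.2.2.2
  have hinl : ∀ x : T, t.base x ∈ U → x ∈ Set.range inl.base := fun x hx => by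
    rcases (hcov.ge (Set.mem_univ x)) with h | ⟨y, rfl⟩
    · exact h
    obtain ⟨n, y, rfl⟩ := hjQ y
    have hyU : y.1 ∈ U := htQ n y ▸ hx
    let p : κ := ⟨(c y.1 + n.down, n.down)⟩
    let w : (O p).toScheme := ⟨y.1, hyU, y.2, (add_sub_cancel_right _ _).symm⟩
    refine ⟨g₁.base ((Sigma.ι (fun p : κ => (O p).toScheme) p).base w), ?_⟩
    rw [← Scheme.Hom.comp_apply g₁, pushout.condition, Scheme.Hom.comp_apply, ← Scheme.Hom.comp_apply _ g₂]
    refine congrArg inr.base ?_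
    rw [Sigma.ι_desc]
    simp only [b, Scheme.Hom.comp_apply]
    exact congrArg (pV n).base (Subtype.ext (hpt V p (hOV p) w))
  have hinr : ∀ x : T, t.base x ∈ V → x ∈ Set.range inr.base := fun x hx => by
    rcases (hcov.ge (Set.mem_univ x)) with ⟨y, rfl⟩ | h
    swap
    · exact h
    obtain ⟨m, y, rfl⟩ := hjP y
    have hyV : y.1 ∈ V := htP m y ▸ hx
    let p : κ := ⟨(m.down, m.down - c y.1)⟩
    let w : (O p).toScheme := ⟨y.1, y.2, hyV, (sub_sub_cancel _ _).symm⟩
    refine ⟨g₂.base ((Sigma.ι (fun p : κ => (O p).toScheme) p).base w), ?_⟩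
    rw [← Scheme.Hom.comp_apply g₂, ← pushout.condition, Scheme.Hom.comp_apply, ← Scheme.Hom.comp_apply _ g₁]
    refine congrArg inl.base ?_
    rw [Sigma.ι_desc]
    simp only [a, Scheme.Hom.comp_apply]
    exact congrArg (pU m).base (Subtype.ext (hpt U p (hOU p) w))
  let qP : P ⟶ U.toScheme := Sigma.desc fun _ => 𝟙 _
  let qQ : Q ⟶ V.toScheme := Sigma.desc fun _ => 𝟙 _
  have hqP : qP ≫ U.ι = inl ≫ t := by rw [hl]; exact Sigma.hom_ext _ _ fun m => by simp [qP, dP]
  have hqQ : qQ ≫ V.ι = inr ≫ t := by rw [hr]; exact Sigma.hom_ext _ _ fun m => by simp [qQ, dQ]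
  have sqP : IsPullback qP inl U.ι t :=
    LimitsH94.Approx.isPullback_of_preimage hqP fun x hx => hinl x (by rwa [Scheme.Opens.range_ι] at hx)
  have sqQ : IsPullback qQ inr V.ι t :=
    LimitsH94.Approx.isPullback_of_preimage hqQ fun x hx => hinr x (by rwa [Scheme.Opens.range_ι] at hx)
  let 𝒰 : Z.OpenCover := LimitsH94.Approx.twoCover U.ι V.ι (by
    rw [Scheme.Opens.range_ι, Scheme.Opens.range_ι]
    exact congrArg (fun W : Z.Opens => (W : Set Z)) hUV)
  have key : ∀ (P : MorphismProperty Scheme.{u}) [IsZariskiLocalAtTarget P], P qP → P qQ → P t := by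
    intro P' _ h1 h2
    refine IsZariskiLocalAtTarget.of_openCover 𝒰 fun i => ?_
    cases i
    · exact (MorphismProperty.cancel_left_of_respectsIso P' sqP.flip.isoPullback.hom
        (pullback.snd t U.ι)).mp (by rw [sqP.flip.isoPullback_hom_snd]; exact h1)
    · exact (MorphismProperty.cancel_left_of_respectsIso P' sqQ.flip.isoPullback.hom
        (pullback.snd t V.ι)).mp (by rw [sqQ.flip.isoPullback_hom_snd]; exact h2)
  have hfin : IsFinite t := key @IsFinite (SGA1Q.isFinite_sigmaDesc _ fun _ => inferInstance)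
    (SGA1Q.isFinite_sigmaDesc _ fun _ => inferInstance)
  have het : Etale t := key @Etale (IsZariskiLocalAtSource.sigmaDesc (P := @Etale) fun _ => inferInstance)
    (IsZariskiLocalAtSource.sigmaDesc (P := @Etale) fun _ => inferInstance)
  have hsurj : Surjective t := ⟨fun z => by
    have hz : z ∈ U ∨ z ∈ V := by simpa using (hUV ▸ trivial : z ∈ U ⊔ V)
    rcases hz with hz | hz
    · exact ⟨_, htP ⟨0⟩ ⟨z, hz⟩⟩
    · exact ⟨_, htQ ⟨0⟩ ⟨z, hz⟩⟩⟩
  let fU : T → M := fun x => if h : x ∈ Set.range inl.base then (hjP h.choose).choose.down else 0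
  let fV : T → M := fun x => if h : x ∈ Set.range inr.base then (hjQ h.choose).choose.down else 0
  have hfU : ∀ m x, fU (inl.base ((pU m).base x)) = m.down := fun m x => by
    have h : inl.base ((pU m).base x) ∈ Set.range inl.base := ⟨_, rfl⟩
    simp only [fU, dif_pos h]
    obtain ⟨x', hx'⟩ := (hjP h.choose).choose_spec
    exact congrArg ULift.down (Sigma.mk.inj_iff.mp ((sigmaι_eq_iff (fun _ : ι => U.toScheme) _ _ _ _).mp
      (hx'.trans (inl.isOpenEmbedding.injective h.choose_spec)))).1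
  have hfV : ∀ n y, fV (inr.base ((pV n).base y)) = n.down := fun n y => by
    have h : inr.base ((pV n).base y) ∈ Set.range inr.base := ⟨_, rfl⟩
    simp only [fV, dif_pos h]
    obtain ⟨x', hx'⟩ := (hjQ h.choose).choose_spec
    exact congrArg ULift.down (Sigma.mk.inj_iff.mp ((sigmaι_eq_iff (fun _ : ι => V.toScheme) _ _ _ _).mp
      (hx'.trans (inr.isOpenEmbedding.injective h.choose_spec)))).1
  refine ⟨T, t, hfin, het, hsurj, fU, fV, fun m => ?_, fun m => ?_, fun x hxU hxV => ?_⟩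
  · convert (pU ⟨m⟩ ≫ inl).isOpenEmbedding.isOpen_range using 1
    ext x
    constructor
    · rintro ⟨hx, hm⟩
      obtain ⟨y, rfl⟩ := hinl x hx
      obtain ⟨m', y, rfl⟩ := hjP y
      obtain rfl : m'.down = m := (hfU m' y).symm.trans hm
      exact ⟨y, Scheme.Hom.comp_apply _ _ _⟩
    · rintro ⟨y, rfl⟩
      rw [Scheme.Hom.comp_apply]
      exact ⟨by rw [htP]; exact y.2, hfU ⟨m⟩ y⟩
  · convert (pV ⟨m⟩ ≫ inr).isOpenEmbedding.isOpen_range using 1
    ext x
    constructor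
    · rintro ⟨hx, hm⟩
      obtain ⟨y, rfl⟩ := hinr x hx
      obtain ⟨m', y, rfl⟩ := hjQ y
      obtain rfl : m'.down = m := (hfV m' y).symm.trans hm
      exact ⟨y, Scheme.Hom.comp_apply _ _ _⟩
    · rintro ⟨y, rfl⟩
      rw [Scheme.Hom.comp_apply]
      exact ⟨by rw [htQ]; exact y.2, hfV ⟨m⟩ y⟩
  · obtain ⟨y, rfl⟩ := hinl x hxU
    obtain ⟨z, hz⟩ := hinr _ hxV
    obtain ⟨m, y, rfl⟩ := hjP y
    obtain ⟨n, z, rfl⟩ := hjQ z
    rw [hfU, htP, ← hz, hfV]
    exact hmeet m n y z hz.symm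

end Groth.Agent.EtPBC63.Core
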