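import Groth.Agent.EtPBC63.Core.Normal
import Mathlib.RingTheory.Localization.Integral
import Mathlib.RingTheory.Localization.Ideal
import Mathlib.RingTheory.LocalProperties.Reduced

/-!
# Basic opens of closed subschemes of totally integrally closed affine schemes
-/

universe u

open CategoryTheory CategoryTheory.Limits AlgebraicGeometry Polynomial Topology

namespace Groth.Agent.EtPBC63.Core

set_option backward.isDefEq.respectTransparency.types false
set_option linter.style.haveILetI false

variable {R K : Type u} [CommRing R] [CommRing K] [Algebra R K]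

/-- Localizing at an element keeps the structure. -/
theorem AICBase.away (h : AICBase R K) (f : R) :
    letI : Algebra (Localization.Away f) (Localization (Algebra.algebraMapSubmonoid K (Submonoid.powers f))) :=
      localizationAlgebra (Submonoid.powers f) K
    AICBase (Localization.Away f) (Localization (Algebra.algebraMapSubmonoid K (Submonoid.powers f))) := by
  set M := Submonoid.powers f
  let R' := Localization.Away f
  let K' := Localization (Algebra.algebraMapSubmonoid K M)
  letI : Algebra R' K' := localizationAlgebra M K
  haveI := h.reduced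
  haveI := h.dimZero
  haveI : IsScalarTower R R' K' := IsScalarTower.of_algebraMap_eq' (by
    simp only [R', K', RingHom.algebraMap_toAlgebra]
    rw [IsLocalization.map_comp]; rfl)
  refine
    { reduced := inferInstanceAs (IsReduced (Localization _))
      dimZero := Ring.KrullDimLE.mk₀ fun P hP => ?_
      aic := ?_
      inj := localizationAlgebra_injective R' K' h.inj
      closed := fun x hx => ?_ }
  · obtain ⟨Q, hQ, hPQ⟩ := Ideal.exists_le_maximal P hP.ne_top
    haveI := hQ.isPrime
    have h1 : (P.comap (algebraMap K K')).IsMaximal := (inferInstance : (P.comap (algebraMap K K')).IsPrime).isMaximal'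
    have h2 : P.comap (algebraMap K K') = Q.comap (algebraMap K K') :=
      h1.eq_of_le (Ideal.IsPrime.ne_top inferInstance) (Ideal.comap_mono hPQ)
    have h3 : P = Q := by
      rw [← IsLocalization.map_under (Algebra.algebraMapSubmonoid K M) K' P,
        ← IsLocalization.map_under (Algebra.algebraMapSubmonoid K M) K' Q]
      exact congrArg (Ideal.map _) h2
    exact h3 ▸ hQ
  · rcases subsingleton_or_nontrivial K' with h0 | h0
    · exact fun g _ _ => ⟨0, Subsingleton.elim _ _⟩
    · exact ModPairLocal.isAIC_localization (Algebra.algebraMapSubmonoid K M) h.aic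
  · obtain ⟨⟨m, hm⟩, hmx⟩ := hx.exists_multiple_integral_of_isLocalization M x
    obtain ⟨⟨k, ⟨t, ht⟩⟩, hk⟩ := IsLocalization.surj (Algebra.algebraMapSubmonoid K M) (m • x)
    obtain ⟨s, hs, rfl⟩ := ht
    have hks : algebraMap K K' k = algebraMap R K' s * (m • x) := by
      rw [← hk, mul_comm, IsScalarTower.algebraMap_apply R K K']
    have hint : IsIntegral R (algebraMap K K' k) := by
      rw [hks]; exact isIntegral_algebraMap.mul hmx
    obtain ⟨P, hP, hP0⟩ := hint
    have hP1 : algebraMap K K' (aeval k P) = 0 := by
      rw [← aeval_algebraMap_apply, aeval_def]; exact hP0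
    obtain ⟨⟨_, a, ha, rfl⟩, hak⟩ := (IsLocalization.map_eq_zero_iff (Algebra.algebraMapSubmonoid K M) K' _).1 hP1
    by_cases hd : P.natDegree = 0
    · rw [hP.natDegree_eq_zero.1 hd, map_one, map_one] at hP1
      exact ⟨0, @Subsingleton.elim _ (subsingleton_of_zero_eq_one hP1.symm) _ _⟩
    obtain ⟨r, hr⟩ := h.closed (algebraMap R K a * k) ⟨scaleRoots P a, (monic_scaleRoots_iff a).2 hP, by
      rw [← aeval_def]
      have e : aeval (algebraMap R K a * k) (scaleRoots P a) = algebraMap R K a ^ P.natDegree * aeval k P :=
        scaleRoots_eval₂_mul (algebraMap R K) k a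
      obtain ⟨j, hj⟩ := Nat.exists_eq_succ_of_ne_zero hd
      rw [e, hj, pow_succ, mul_assoc, hak, mul_zero]⟩
    have hu : IsUnit (algebraMap R R' (a * s * m)) :=
      IsLocalization.map_units R' (⟨a * s * m, mul_mem (mul_mem ha hs) hm⟩ : M)
    refine ⟨hu.unit⁻¹ * algebraMap R R' r, ?_⟩
    have e : algebraMap R' K' (algebraMap R R' r) = algebraMap R' K' (algebraMap R R' (a * s * m)) * x := by
      rw [← IsScalarTower.algebraMap_apply R R' K', ← IsScalarTower.algebraMap_apply R R' K',
        IsScalarTower.algebraMap_apply R K K', hr, map_mul, hks, map_mul, map_mul, Algebra.smul_def,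
        ← IsScalarTower.algebraMap_apply R K K']
      ring
    rw [map_mul, e, ← mul_assoc, ← map_mul, IsUnit.val_inv_mul, map_one, one_mul]

/-- A basic open of a closed subscheme is again such a closed subscheme. -/
theorem AICBase.exists_basicOpen (h : AICBase R K) (I : Ideal R) (f : R) {T : Scheme.{u}}
    (j : T ⟶ Spec (CommRingCat.of (R ⧸ I))) [IsOpenImmersion j]
    (hj : Set.range j.base = (PrimeSpectrum.basicOpen (Ideal.Quotient.mk I f) : Set (PrimeSpectrum (R ⧸ I)))) :
    ∃ (R' K' : Type u) (_ : CommRing R') (_ : CommRing K') (_ : Algebra R' K') (_ : AICBase R' K') (I' : Ideal R'),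
      Nonempty (T ≅ Spec (CommRingCat.of (R' ⧸ I'))) := by
  letI : Algebra (Localization.Away f) (Localization (Algebra.algebraMapSubmonoid K (Submonoid.powers f))) :=
      localizationAlgebra (Submonoid.powers f) K
  let L := Localization.Away f ⧸ I.map (algebraMap R (Localization.Away f))
  haveI : IsLocalization.Away (Ideal.Quotient.mk I f) L := by
    have h1 : Algebra.algebraMapSubmonoid (R ⧸ I) (Submonoid.powers f) = Submonoid.powers (Ideal.Quotient.mk I f) :=
      Submonoid.map_powers _ f
    have h2 : IsLocalization (Algebra.algebraMapSubmonoid (R ⧸ I) (Submonoid.powers f)) L := inferInstance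
    rwa [h1] at h2
  refine ⟨_, _, inferInstance, inferInstance, inferInstance, h.away f, I.map (algebraMap R (Localization.Away f)), ?_⟩
  let σ := Spec.map (CommRingCat.ofHom (algebraMap (R ⧸ I) L))
  haveI : IsOpenImmersion σ := IsOpenImmersion.of_isLocalization (Ideal.Quotient.mk I f)
  exact ⟨IsOpenImmersion.isoOfRangeEq j σ
    (hj.trans (PrimeSpectrum.localization_away_comap_range L (Ideal.Quotient.mk I f)).symm)⟩

end Groth.Agent.EtPBC63.Core
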