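import Groth.Agent.EtPBC63.Core.Sheets

/-!
# Finite étale covers of closed subschemes of totally integrally closed affine schemes have sections
-/

universe u

open CategoryTheory CategoryTheory.Limits AlgebraicGeometry Topology TopologicalSpace TensorProduct

namespace Groth.Agent.EtPBC63.Core

set_option backward.isDefEq.respectTransparency.types false
set_option linter.style.haveILetI false

set_option backward.isDefEq.respectTransparency false in
theorem exists_section_of_sheets {Z T : Scheme.{u}} (t : T ⟶ Z) [IsFinite t] [Etale t] [Surjective t]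
    (hZ : ∀ z : Z, EtCoh.IsStrictlyHenselianLocalRing (Z.presheaf.stalk z)) {n : ℕ} (j : T → Fin n)
    (hj : IsLocallyConstant j) (hinj : ∀ q q', t.base q = t.base q' → j q = j q' → q = q') :
    ∃ σ : Z ⟶ T, σ ≫ t = 𝟙 Z := by
  classical
  let U : Fin n → T.Opens := fun k => ⟨j ⁻¹' {k}, hj.isOpen_fiber k⟩
  have hoi : ∀ k, IsOpenImmersion ((U k).ι ≫ t) := by
    intro k
    haveI : Etale ((U k).ι ≫ t) := inferInstance
    have hemb : IsOpenEmbedding ((U k).ι ≫ t).base := by
      refine IsOpenEmbedding.of_continuous_injective_isOpenMap ((U k).ι ≫ t).continuous ?_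
        ((U k).ι ≫ t).isOpenMap
      intro a b hab
      rw [Scheme.Hom.comp_apply, Scheme.Hom.comp_apply] at hab
      exact Subtype.ext (hinj a.1 b.1 hab (a.2.trans b.2.symm))
    haveI : ∀ x, IsIso (((U k).ι ≫ t).stalkMap x) := by
      intro x
      obtain ⟨W, s, hW, hs, y, hy⟩ := BigSiteLib.exists_open_section_mem hZ ((U k).ι ≫ t) x
      haveI : IsOpenImmersion s := by
        haveI : Etale (s ≫ (U k).ι ≫ t) := by rw [hs]; infer_instance
        haveI := Etale.of_comp s ((U k).ι ≫ t)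
        haveI : Mono s := mono_of_mono_fac hs
        exact IsOpenImmersion.of_flat_of_mono _
      subst hy
      haveI : IsOpenImmersion (s ≫ (U k).ι ≫ t) := by rw [hs]; infer_instance
      haveI : IsIso (((U k).ι ≫ t).stalkMap (s.base y) ≫ s.stalkMap y) := by
        rw [← Scheme.Hom.stalkMap_comp]; infer_instance
      exact IsIso.of_isIso_comp_right _ (s.stalkMap y)
    exact IsOpenImmersion.of_isIso_stalkMap _ hemb
  have hclosed : ∀ k, IsClosed (t.base '' (U k : Set T)) := fun k =>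
    t.isClosedMap _ (hj.isClosed_fiber k)
  let P : Fin n → Set Z := fun k => t.base '' (U k : Set T) ∩ (⋃ i ∈ Finset.Iio k, t.base '' (U i : Set T))ᶜ
  have hPopen : ∀ k, IsOpen (P k) := fun k =>
    (t.isOpenMap _ (U k).2).inter (Set.Finite.isClosed_biUnion (Finset.finite_toSet _) fun i _ => hclosed i).isOpen_compl
  let O : Fin n → Z.Opens := fun k => ⟨P k, hPopen k⟩
  have hdisj : ∀ k k' z, z ∈ O k → z ∈ O k' → k = k' := fun k k' z hk hk' => by
    rcases lt_trichotomy k k' with hl | hl | hl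
    · exact absurd (Set.mem_biUnion (Finset.mem_Iio.mpr hl) hk.1) hk'.2
    · exact hl
    · exact absurd (Set.mem_biUnion (Finset.mem_Iio.mpr hl) hk'.1) hk.2
  have hcov : ∀ z : Z, ∃ k, z ∈ O k := fun z => by
    obtain ⟨q, rfl⟩ := t.surjective z
    let Fs := Finset.univ.filter fun k => t.base q ∈ t.base '' (U k : Set T)
    have hF : Fs.Nonempty := ⟨j q, Finset.mem_filter.mpr ⟨Finset.mem_univ _, q, rfl, rfl⟩⟩
    refine ⟨Fs.min' hF, (Finset.mem_filter.mp (Fs.min'_mem hF)).2, fun hm => ?_⟩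
    obtain ⟨i, hi, hi'⟩ := Set.mem_iUnion₂.mp hm
    exact absurd (Fs.min'_le i (Finset.mem_filter.mpr ⟨Finset.mem_univ _, hi'⟩))
      (not_le.mpr (Finset.mem_Iio.mp hi))
  have hrange : ∀ k, Set.range (O k).ι.base ⊆ Set.range ((U k).ι ≫ t).base := fun k => by
    rw [Scheme.Opens.range_ι]
    rintro z ⟨⟨q, hq, rfl⟩, -⟩
    exact ⟨⟨q, hq⟩, Scheme.Hom.comp_apply _ _ _⟩
  haveI := hoi
  let σk : ∀ k, (O k).toScheme ⟶ T := fun k => IsOpenImmersion.lift ((U k).ι ≫ t) (O k).ι (hrange k) ≫ (U k).ι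
  have hσk : ∀ k, σk k ≫ t = (O k).ι := fun k => by
    rw [Category.assoc]; exact IsOpenImmersion.lift_fac _ _ _
  let 𝒰 : Z.OpenCover := Z.openCoverOfIsOpenCover O (by
    rw [IsOpenCover, eq_top_iff]
    rintro z -
    obtain ⟨k, hk⟩ := hcov z
    exact Opens.mem_iSup.mpr ⟨k, hk⟩)
  refine ⟨𝒰.glueMorphisms σk fun k k' => ?_, ?_⟩
  · by_cases hkk : k = k'
    · subst hkk
      have e : pullback.fst (𝒰.f k) (𝒰.f k) = pullback.snd (𝒰.f k) (𝒰.f k) :=
        (cancel_mono (𝒰.f k)).1 pullback.condition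
      rw [e]
    · haveI : IsEmpty ↥(pullback (𝒰.f k) (𝒰.f k')) := ⟨fun w => hkk (by
        have e := congr(($(pullback.condition (f := 𝒰.f k) (g := 𝒰.f k'))).base w)
        rw [Scheme.Hom.comp_apply, Scheme.Hom.comp_apply] at e
        refine hdisj k k' _ ((pullback.fst (𝒰.f k) (𝒰.f k')).base w).2 ?_
        rw [show ((pullback.fst (𝒰.f k) (𝒰.f k')).base w).1 = ((pullback.snd (𝒰.f k) (𝒰.f k')).base w).1 from e]
        exact ((pullback.snd (𝒰.f k) (𝒰.f k')).base w).2)⟩
      exact isInitialOfIsEmpty.hom_ext _ _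
  · refine 𝒰.hom_ext _ _ fun k => ?_
    rw [𝒰.ι_glueMorphisms_assoc, Category.comp_id]
    exact hσk k

variable {R K : Type u} [CommRing R] [CommRing K] [Algebra R K]

/-- A finite étale surjective scheme over a closed subscheme of a totally integrally closed affine scheme has a
section. -/
theorem AICBase.exists_section (h : AICBase R K) (I : Ideal R) {T : Scheme.{u}}
    (t : T ⟶ Spec (CommRingCat.of (R ⧸ I))) [IsFinite t] [Etale t] [Surjective t] :
    ∃ σ, σ ≫ t = 𝟙 _ := by
  haveI : IsAffine T := isAffine_of_isAffineHom t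
  obtain ⟨φ, hφ⟩ := Spec.map_surjective (T.isoSpec.inv ≫ t)
  algebraize [φ.hom]
  haveI : Algebra.Etale (R ⧸ I) Γ(T, ⊤) := by
    have h1 : Etale (Spec.map φ) := by rw [hφ]; infer_instance
    exact RingHom.etale_algebraMap.1 ((HasRingHomProperty.Spec_iff (P := @Etale)).mp h1)
  haveI : Module.Finite (R ⧸ I) Γ(T, ⊤) := by
    have h1 : IsFinite (Spec.map φ) := by rw [hφ]; infer_instance
    exact (IsFinite.SpecMap_iff φ).mp h1
  obtain ⟨B, _, _, _, ⟨e⟩⟩ := Hensel.exists_etale_algebra_lift (A := R) (T := R ⧸ I) (C := Γ(T, ⊤))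
    Ideal.Quotient.mk_surjective
  let v : Spec (CommRingCat.of B) ⟶ Spec (CommRingCat.of R) := Spec.map (CommRingCat.ofHom (algebraMap R B))
  haveI : Etale v := (HasRingHomProperty.Spec_iff (P := @Etale)).mpr (RingHom.etale_algebraMap.2 inferInstance)
  obtain ⟨n, j, hj, hinj⟩ := exists_sheets h v
  let χ : CommRingCat.of B ⟶ Γ(T, ⊤) := CommRingCat.ofHom
    ((e : (R ⧸ I) ⊗[R] B →+* Γ(T, ⊤)).comp Algebra.TensorProduct.includeRight.toRingHom)
  have hχ : Function.Surjective χ.hom := by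
    intro x
    obtain ⟨y, rfl⟩ := e.surjective x
    induction y using TensorProduct.induction_on with
    | zero => exact ⟨0, by simp [χ]⟩
    | tmul a b =>
      obtain ⟨r, rfl⟩ := Ideal.Quotient.mk_surjective a
      refine ⟨r • b, ?_⟩
      show e ((1 : R ⧸ I) ⊗ₜ[R] (r • b)) = e (Ideal.Quotient.mk I r ⊗ₜ[R] b)
      rw [← TensorProduct.smul_tmul, Algebra.smul_def, mul_one]; rfl
    | add x y hx hy =>
      obtain ⟨a, ha⟩ := hx; obtain ⟨b, hb⟩ := hy
      exact ⟨a + b, by rw [map_add, ha, hb, map_add]⟩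
  haveI : IsClosedImmersion (Spec.map χ) := IsClosedImmersion.spec_of_surjective χ hχ
  let ι : T ⟶ Spec (CommRingCat.of B) := T.isoSpec.hom ≫ Spec.map χ
  have hιv : ι ≫ v = t ≫ Spec.map (CommRingCat.ofHom (Ideal.Quotient.mk I)) := by
    have e1 : CommRingCat.ofHom (algebraMap R B) ≫ χ = CommRingCat.ofHom (Ideal.Quotient.mk I) ≫ φ := by
      ext r
      show e ((1 : R ⧸ I) ⊗ₜ[R] algebraMap R B r) = algebraMap (R ⧸ I) Γ(T, ⊤) (Ideal.Quotient.mk I r)
      rw [← e.commutes, Algebra.algebraMap_eq_smul_one, ← TensorProduct.smul_tmul, Algebra.smul_def, mul_one]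
      rfl
    simp only [ι, v, Category.assoc, ← Spec.map_comp, e1]
    rw [Spec.map_comp, hφ, Category.assoc, Iso.hom_inv_id_assoc]
  have hij : Function.Injective ι.base := ι.isClosedEmbedding.injective
  refine exists_section_of_sheets t (fun z => isStrictlyHenselian_stalk (R := CommRingCat.of (R ⧸ I))
    (ModPairLocal.isAIC_quotient h.isAIC I) z) (fun q => j (ι.base q)) (hj.comp_continuous ι.continuous)
    fun q q' hq hjq => hij (hinj _ _ ?_ hjq)
  rw [← Scheme.Hom.comp_apply, ← Scheme.Hom.comp_apply, hιv, Scheme.Hom.comp_apply, Scheme.Hom.comp_apply, hq]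

end Groth.Agent.EtPBC63.Core
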