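import Groth.Agent.EtPBC63.Core.MV
import Groth.Agent.EtPBC63.Core.Loc
import Groth.Agent.EtPBC63.Core.Section
import Groth.Agent.EtPBC63.Core.Glue

/-!
# Constant sheaves are acyclic on closed subschemes of totally integrally closed affine schemes
-/

universe u

open CategoryTheory CategoryTheory.Limits AlgebraicGeometry Opposite TopologicalSpace CategoryTheory.Abelian

namespace Groth.Agent.EtPBC63.Core

open EtFound EtDerLib

set_option linter.style.haveILetI false
set_option backward.isDefEq.respectTransparency.types false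

variable {M : Type} [AddCommGroup M] [Finite M] {X : Scheme.{u}}

private abbrev Acyclic (M : Type) [AddCommGroup M] (q : ℕ) : Prop :=
  ∀ (R K : Type u) [CommRing R] [CommRing K] [Algebra R K], AICBase R K → ∀ (I : Ideal R) (X : Scheme.{u})
    (W : X.Etale), (W.left ≅ Spec (CommRingCat.of (R ⧸ I))) → Subsingleton (HT (EtCoh.const X M) (q + 1) W)

/-- The sum of two elements of the annihilating set is in the set. -/
theorem killed_add (q : ℕ) (ih : ∀ q' < q, Acyclic.{u} M q') {R K : Type u} [CommRing R] [CommRing K]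
    [Algebra R K] (h : AICBase R K) (I : Ideal R) (W : X.Etale) (e : W.left ≅ Spec (CommRingCat.of (R ⧸ I)))
    (ξ : HT (EtCoh.const X M) (q + 1) W) (a b : R ⧸ I)
    (ha : HTres _ (q + 1) (restrictEtaleHom W (e.hom ⁻¹ᵁ PrimeSpectrum.basicOpen a)) ξ = 0)
    (hb : HTres _ (q + 1) (restrictEtaleHom W (e.hom ⁻¹ᵁ PrimeSpectrum.basicOpen b)) ξ = 0) :
    HTres _ (q + 1) (restrictEtaleHom W (e.hom ⁻¹ᵁ PrimeSpectrum.basicOpen (a + b))) ξ = 0 := by
  classical
  let F := EtCoh.const X M
  let B : R ⧸ I → W.left.Opens := fun c => e.hom ⁻¹ᵁ PrimeSpectrum.basicOpen c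
  let W' := restrictEtale W (B (a + b))
  let ξ' := HTres F (q + 1) (restrictEtaleHom W (B (a + b))) ξ
  let U : W'.left.Opens := (B (a + b)).ι ⁻¹ᵁ B a
  let V : W'.left.Opens := (B (a + b)).ι ⁻¹ᵁ B b
  have hUV : U ⊔ V = ⊤ := by
    refine eq_top_iff.2 fun x _ => ?_
    have hx : a + b ∉ (e.hom.base x.1).asIdeal := x.2
    by_cases h' : a ∈ (e.hom.base x.1).asIdeal
    · exact Or.inr fun hb' => hx (Ideal.add_mem _ h' hb')
    · exact Or.inl h'
  have hk : ∀ (c : R ⧸ I), HTres F (q + 1) (restrictEtaleHom W (B c)) ξ = 0 →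
      HTres F (q + 1) (restrictEtaleHom W' ((B (a + b)).ι ⁻¹ᵁ B c)) ξ' = 0 := fun c hc => by
    show HTres F (q + 1) (restrictEtaleHom W' _) (HTres F (q + 1) (restrictEtaleHom W (B (a + b))) ξ) = 0
    rw [← HTres_comp]
    exact HTres_eq_zero_of_factor F (q + 1) _ _ (restrictEtaleMap (restrictEtaleHom W (B (a + b))) (B c) _ le_rfl)
      (restrictEtaleMap_comp _ _ _ _) ξ hc
  have hbase : ∀ (c : R ⧸ I) (T : Scheme.{u}) (j : T ⟶ W.left) [IsOpenImmersion j],
      Set.range j.base = (B c : Set W.left) → ∃ (R' K' : Type u) (_ : CommRing R') (_ : CommRing K')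
        (_ : Algebra R' K') (_ : AICBase R' K') (I' : Ideal R'), Nonempty (T ≅ Spec (CommRingCat.of (R' ⧸ I'))) := by
    intro c T j _ hj
    obtain ⟨r, rfl⟩ := Ideal.Quotient.mk_surjective c
    refine h.exists_basicOpen I r (j ≫ e.hom) ?_
    rw [Scheme.Hom.comp_base, TopCat.coe_comp, Set.range_comp, hj]
    ext y
    constructor
    · rintro ⟨x, hx, rfl⟩
      exact hx
    · intro hy
      have hy' : e.hom.base (e.inv.base y) = y := by rw [← Scheme.Hom.comp_apply, e.inv_hom_id]; rfl
      exact ⟨e.inv.base y, show e.hom.base (e.inv.base y) ∈ PrimeSpectrum.basicOpen (Ideal.Quotient.mk I r) from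
        hy'.symm ▸ hy, hy'⟩
  show ξ' = 0
  rcases q with - | q
  · obtain ⟨R', K', _, _, _, h', I', ⟨e'⟩⟩ := hbase (a + b) _ (B (a + b)).ι (Scheme.Opens.range_ι _)
    obtain ⟨c, hc, hkill⟩ := exists_cocycle W' ξ' U V hUV (hk a ha) (hk b hb)
    obtain ⟨T, t, _, _, _, fU, fV, hfU, hfV, hcf⟩ := exists_torsor U V hUV M c hc
    haveI : IsFinite (t ≫ e'.hom) := inferInstance
    haveI : AlgebraicGeometry.Etale (t ≫ e'.hom) := inferInstance
    haveI : Surjective (t ≫ e'.hom) := inferInstance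
    obtain ⟨σ, hσ⟩ := h'.exists_section I' (t ≫ e'.hom)
    let s : W'.left ⟶ T := e'.hom ≫ σ
    have hs : ∀ x, t.base (s.base x) = x := fun x => by
      have h1 : s ≫ t = 𝟙 _ := by
        refine (cancel_mono (f := e'.hom) (g := s ≫ t) (h := 𝟙 _)).1 ?_
        show ((e'.hom ≫ σ) ≫ t) ≫ e'.hom = 𝟙 _ ≫ e'.hom
        rw [Category.assoc, Category.assoc, hσ, Category.comp_id, Category.id_comp]
      rw [← Scheme.Hom.comp_apply, h1]; rfl
    have key : HTres F 1 (𝟙 W') ξ' = 0 := by
      refine hkill (𝟙 W') (fun x => fU (s.base x)) (fun x => fV (s.base x)) (fun m => ?_) (fun m => ?_) ?_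
      · have := (hfU m).preimage s.continuous
        convert this using 1
        ext x
        show _ ∧ _ ↔ t.base (s.base x) ∈ _ ∧ _
        rw [hs]; rfl
      · have := (hfV m).preimage s.continuous
        convert this using 1
        ext x
        show _ ∧ _ ↔ t.base (s.base x) ∈ _ ∧ _
        rw [hs]; rfl
      · intro x hxU hxV
        exact (congrArg c (hs x).symm).trans (hcf (s.base x) (by rw [hs]; exact hxU) (by rw [hs]; exact hxV))
    rw [← key]
    show ξ' = (Ext.mk₀ (ZUmap (𝟙 W'))).comp ξ' (zero_add 1)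
    rw [show ZUmap (𝟙 W') = 𝟙 (ZU W') by simp [ZUmap]; rfl, Ext.mk₀_id_comp]
  · refine HT_eq_zero_of_two W' U V hUV q F ?_ ξ' (hk a ha) (hk b hb)
    let j : (U ⊓ V).toScheme ⟶ W.left := (U ⊓ V).ι ≫ (B (a + b)).ι
    haveI hι : IsOpenImmersion (B (a + b)).ι := inferInstance
    haveI : IsOpenImmersion j := @IsOpenImmersion.comp _ _ _ _ _ inferInstance hι
    obtain ⟨R', K', _, _, _, h', I', ⟨e'⟩⟩ := hbase ((a + b) * (a * b)) _ j (by
      ext w
      show w ∈ Set.range j.base ↔ (a + b) * (a * b) ∉ (e.hom.base w).asIdeal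
      constructor
      · rintro ⟨x, rfl⟩ hmem
        rw [Scheme.Hom.comp_apply] at hmem
        rcases Ideal.IsPrime.mem_or_mem inferInstance hmem with h1 | h1
        · exact x.1.2 h1
        · exact (Ideal.IsPrime.mem_or_mem inferInstance h1).elim x.2.1 x.2.2
      · intro hw
        refine ⟨⟨⟨w, fun h1 => hw (Ideal.mul_mem_right _ _ h1)⟩, fun h1 => hw (Ideal.mul_mem_left _ _
          (Ideal.mul_mem_right _ _ h1)), fun h1 => hw (Ideal.mul_mem_left _ _ (Ideal.mul_mem_left _ _ h1))⟩, ?_⟩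
        exact Scheme.Hom.comp_apply _ _ _)
    exact ih q (Nat.lt_succ_self q) R' K' h' I' X (restrictEtale W' (U ⊓ V)) e'

/-- Positive degree classes of a finite constant sheaf vanish on closed subschemes of totally integrally closed
affine schemes. -/
theorem acyclic (q : ℕ) : Acyclic.{u} M q := by
  induction q using Nat.strong_induction_on with
  | _ q ih =>
    intro R K _ _ _ h I X W e
    refine subsingleton_of_forall_eq 0 fun ξ => ?_
    let F := EtCoh.const X M
    let B : R ⧸ I → W.left.Opens := fun c => e.hom ⁻¹ᵁ PrimeSpectrum.basicOpen c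
    have hS : ∀ s : Spec (CommRingCat.of (R ⧸ I)),
        EtCoh.IsStrictlyHenselianLocalRing ((Spec (CommRingCat.of (R ⧸ I))).presheaf.stalk s) :=
      isStrictlyHenselian_stalk (ModPairLocal.isAIC_quotient h.isAIC I)
    have mono : ∀ (O : W.left.Opens) (O' : W.left.Opens), O ≤ O' →
        HTres F (q + 1) (restrictEtaleHom W O') ξ = 0 → HTres F (q + 1) (restrictEtaleHom W O) ξ = 0 :=
      fun O O' hle hk => HTres_eq_zero_of_factor F (q + 1) _ _ (pieceLE W hle) (pieceLE_comp W hle) ξ hk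
    let S : Set (R ⧸ I) := {c | HTres F (q + 1) (restrictEtaleHom W (B c)) ξ = 0}
    have hspan : Ideal.span S = ⊤ := by
      by_contra hne
      obtain ⟨m, hm, hle⟩ := Ideal.exists_le_maximal _ hne
      let p : Spec (CommRingCat.of (R ⧸ I)) := ⟨m, hm.isPrime⟩
      obtain ⟨O, hO, hk⟩ := exists_open_HTres_eq_zero W e hS F q ξ (e.inv.base p)
      have hp : e.hom.base (e.inv.base p) = p := by
        rw [← Scheme.Hom.comp_apply, e.inv_hom_id]; rfl
      obtain ⟨_, ⟨c, rfl⟩, hpc, hc⟩ := PrimeSpectrum.isTopologicalBasis_basic_opens.exists_subset_of_mem_open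
        (show p ∈ e.inv.base ⁻¹' (O : Set W.left) from hO) (O.2.preimage e.inv.continuous)
      refine hpc (hle (Ideal.subset_span (mono (B c) O (fun x hx => ?_) hk)))
      have hxO : e.inv.base (e.hom.base x) ∈ O := hc hx
      rwa [← Scheme.Hom.comp_apply, e.hom_inv_id] at hxO
    have h1 : (1 : R ⧸ I) ∈ S := by
      suffices ∀ c ∈ Ideal.span S, c ∈ S from this 1 (hspan ▸ trivial)
      intro c h'
      induction h' using Submodule.span_induction with
      | mem c hc => exact hc
      | zero =>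
        haveI : IsEmpty ↥(restrictEtale W (B 0)).left := ⟨fun x => x.2 (Ideal.zero_mem _)⟩
        haveI := HT_subsingleton_of_isEmpty F (q + 1) (restrictEtale W (B 0))
        exact Subsingleton.elim _ _
      | add c d _ _ hc hd => exact killed_add q ih h I W e ξ c d hc hd
      | smul r c _ hc => exact mono (B (r • c)) (B c) (fun x hx hc' => hx (Ideal.mul_mem_left _ r hc')) hc
    have htop : (⊤ : W.left.Opens) ≤ B 1 := fun x _ h' =>
      (e.hom.base x).isPrime.ne_top ((Ideal.eq_top_iff_one _).2 h')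
    let s : W ⟶ restrictEtale W ⊤ := MorphismProperty.Over.homMk W.left.topIso.inv (by
      show W.left.topIso.inv ≫ (⊤ : W.left.Opens).ι ≫ W.hom = W.hom
      rw [← Category.assoc, ← Scheme.topIso_hom, Iso.inv_hom_id, Category.id_comp]) trivial
    have hs : s ≫ restrictEtaleHom W ⊤ = 𝟙 W := MorphismProperty.Over.Hom.ext W.left.topIso.inv_hom_id
    have := HTres_eq_zero_of_factor F (q + 1) (𝟙 W) _ s hs ξ (mono ⊤ (B 1) htop h1)
    rw [← this]
    show ξ = (Ext.mk₀ (ZUmap (𝟙 W))).comp ξ (zero_add _)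
    rw [show ZUmap (𝟙 W) = 𝟙 (ZU W) by simp [ZUmap]; rfl, Ext.mk₀_id_comp]

/-- Constant sheaves on closed subschemes of totally integrally closed affine schemes are acyclic. -/
theorem AICBase.subsingleton_H {R K : Type u} [CommRing R] [CommRing K] [Algebra R K] (h : AICBase R K) (I : Ideal R)
    {Z : Scheme.{u}} (e : Z ≅ Spec (CommRingCat.of (R ⧸ I))) (M : Type) [AddCommGroup M] [Finite M] (q : ℕ) :
    Subsingleton (EtCoh.H Z (EtCoh.const Z M) (q + 1)) := by
  let W := EtCoh.top Z
  haveI := acyclic (M := M) q R K h I Z W e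
  have hH : Subsingleton (EtCoh.H W.left ((EtCoh.pull W.hom).obj (EtCoh.const Z M)) (q + 1)) :=
    (toH_bijective W (q + 1) (EtCoh.const Z M)).2.subsingleton
  refine subsingleton_of_forall_eq 0 fun z => ?_
  obtain ⟨z', rfl⟩ := (bijective_comp_mk₀ (EtCore.pullConst W.hom M) (EtCoh.const W.left ℤ) (q + 1)).2 z
  have hz : z' = 0 := @Subsingleton.elim _ hH _ _
  subst hz
  exact Ext.zero_comp _ _ _ _ _

end Groth.Agent.EtPBC63.Core
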