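import Groth.Agent.EtDerLib.ConstSec
import Groth.Agent.EtDerLib.ZU
import Groth.Agent.EtFound.PropPush
import Groth.Agent.EtFound.FiniteStalk

/-!
# Classes of degree one of a constant sheaf and cocycles on two opens
-/

universe u

open CategoryTheory CategoryTheory.Limits AlgebraicGeometry Opposite TopologicalSpace

namespace Groth.Agent.EtPBC63.Core

open EtFound EtDerLib EtDerLib.ConstSec

set_option linter.style.haveILetI false
set_option backward.isDefEq.respectTransparency.types false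

variable {X : Scheme.{u}} {M : Type} [AddCommGroup M]

theorem val_add {W : X.Etale} (s t : Sec M W) (w : W.left) : val (s + t) w = val s w + val t w := by
  obtain ⟨V, g, v, hv, hg⟩ := val_spec s w
  obtain ⟨V', g', v', hv', hg'⟩ := val_spec ((EtCoh.const X M).obj.map g.op t) v
  refine val_eq ⟨V', g' ≫ g, v', ?_, ?_⟩
  · rw [← hv, ← hv']; exact Scheme.Hom.comp_apply g'.left g.left v'
  · rw [map_add, op_comp, Functor.map_comp_apply, Functor.map_comp_apply, hg, cs_res, hg']
    have e : val ((EtCoh.const X M).obj.map g.op t) v = val t w := by rw [val_res, hv]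
    rw [e]
    exact (map_add (GalEt.cst (AddCommGrpCat.of (ULift.{u + 1} M)) V').hom ⟨val s w⟩ ⟨val t w⟩).symm

theorem val_sub {W : X.Etale} (s t : Sec M W) (w : W.left) : val (s - t) w = val s w - val t w := by
  rw [eq_sub_iff_add_eq, ← val_add, sub_add_cancel]

theorem exists_val (W : X.Etale) (f : W.left → M) (hf : IsLocallyConstant f) :
    ∃ s : Sec M W, ∀ w, val s w = f w := by
  classical
  haveI : AlgebraicGeometry.Etale W.hom := W.prop
  let S : Sieve W :=
    { arrows := fun {Z} g => ∃ m, ∀ z : Z.left, f (g.left.base z) = m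
      downward_closed := by
        rintro Y Z g ⟨m, hm⟩ h
        exact ⟨m, fun z => by rw [← hm (h.left.base z)]; exact congrArg f (Scheme.Hom.comp_apply h.left g.left z)⟩ }
  have hS : S ∈ X.smallEtaleTopology W := by
    refine (EtFound.mem_topology_iff _).2 fun w => ?_
    let O : W.left.Opens := ⟨f ⁻¹' {f w}, hf _⟩
    exact ⟨restrictEtale W O, restrictEtaleHom W O, ⟨w, rfl⟩, ⟨f w, fun z => z.2⟩, rfl⟩
  let x : Presieve.FamilyOfElements ((EtCoh.const X M).obj ⋙ forget _) S.arrows :=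
    fun Z g hg => cs M Z hg.choose
  have key : ∀ {Z : X.Etale} (g : Z ⟶ W) (hg : S g) (z : Z.left), val (x g hg) z = f (g.left.base z) :=
    fun g hg z => (val_cs _ _ z).trans (hg.choose_spec z).symm
  have hx : x.Compatible := by
    intro Z₁ Z₂ T g₁ g₂ f₁ f₂ h₁ h₂ he
    refine ext_val fun z => ?_
    show val ((EtCoh.const X M).obj.map g₁.op _) z = val ((EtCoh.const X M).obj.map g₂.op _) z
    rw [val_res, val_res, key f₁ h₁ (g₁.left.base z), key f₂ h₂ (g₂.left.base z)]
    have e : f₁.left.base (g₁.left.base z) = f₂.left.base (g₂.left.base z) := by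
      have := congrArg (fun q : T ⟶ W => q.left.base z) he
      exact (Scheme.Hom.comp_apply g₁.left f₁.left z).symm.trans (this.trans (Scheme.Hom.comp_apply g₂.left f₂.left z))
    rw [e]
  have hsh : Presieve.IsSheafFor ((EtCoh.const X M).obj ⋙ forget _) S.arrows :=
    (isSheaf_iff_isSheaf_of_type _ _).1
      ((sheafCompose X.smallEtaleTopology (forget AddCommGrpCat.{u + 1})).obj (EtCoh.const X M)).property S hS
  refine ⟨hsh.amalgamate x hx, fun w => ?_⟩
  obtain ⟨Z, g, z, hg, hz⟩ := (EtFound.mem_topology_iff _).1 hS w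
  have e : (EtCoh.const X M).obj.map g.op (hsh.amalgamate x hx) = x g hg := hsh.valid_glue hx g hg
  rw [← hz, ← val_res, e, key g hg z]

/-- The inclusion between two open pieces. -/
noncomputable def pieceLE (W : X.Etale) {O O' : W.left.Opens} (h : O ≤ O') :
    restrictEtale W O ⟶ restrictEtale W O' :=
  MorphismProperty.Over.homMk (W.left.homOfLE h)
    ((Category.assoc _ _ _).symm.trans (congrArg (· ≫ W.hom) (Scheme.homOfLE_ι _ h))) trivial

theorem pieceLE_comp (W : X.Etale) {O O' : W.left.Opens} (h : O ≤ O') :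
    pieceLE W h ≫ restrictEtaleHom W O' = restrictEtaleHom W O :=
  MorphismProperty.Over.Hom.ext (Scheme.homOfLE_ι _ h)

set_option backward.isDefEq.respectTransparency false in
/-- Sections on two opens which agree on the overlap glue. -/
theorem exists_glue_two (G : EtCoh.Ab X) (W : X.Etale) (U V : W.left.Opens) (hUV : U ⊔ V = ⊤)
    (a : G.obj.obj (op (restrictEtale W U))) (b : G.obj.obj (op (restrictEtale W V)))
    (h : G.obj.map (pieceLE W (inf_le_left : U ⊓ V ≤ U)).op a = G.obj.map (pieceLE W (inf_le_right : U ⊓ V ≤ V)).op b) :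
    ∃ s, G.obj.map (restrictEtaleHom W U).op s = a ∧ G.obj.map (restrictEtaleHom W V).op s = b := by
  let O : ULift.{u} Bool → W.left.Opens := fun i => if i.down then U else V
  let t : ∀ i, G.obj.obj (op (restrictEtale W (O i))) := fun i => match i with
    | ⟨true⟩ => a
    | ⟨false⟩ => b
  have hs := ((isSheaf_iff_isSheaf_of_type _ _).1
    ((sheafCompose X.smallEtaleTopology (forget AddCommGrpCat.{u + 1})).obj G).property)
    (Sieve.generate (Presieve.ofArrows _ (fun i => restrictEtaleHom W (O i)))) (X := W) (by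
      refine (EtFound.mem_topology_iff _).2 fun x => ?_
      have hx : x ∈ U ∨ x ∈ V := by simpa using (hUV ▸ trivial : x ∈ U ⊔ V)
      rcases hx with hx | hx
      · exact ⟨_, restrictEtaleHom W (O ⟨true⟩), ⟨x, hx⟩, Sieve.le_generate _ _ _ (Presieve.ofArrows.mk _), rfl⟩
      · exact ⟨_, restrictEtaleHom W (O ⟨false⟩), ⟨x, hx⟩, Sieve.le_generate _ _ _ (Presieve.ofArrows.mk _), rfl⟩)
  rw [← Presieve.isSheafFor_iff_generate, Presieve.isSheafFor_arrows_iff] at hs
  have hsame : ∀ (O' : W.left.Opens) (Z : X.Etale) (p q : Z ⟶ restrictEtale W O'),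
      p ≫ restrictEtaleHom W O' = q ≫ restrictEtaleHom W O' → p = q := fun O' Z p q e =>
    MorphismProperty.Over.Hom.ext ((cancel_mono O'.ι).1 (congrArg (fun k => k.left) e))
  have hmix : ∀ (Z : X.Etale) (p : Z ⟶ restrictEtale W U) (q : Z ⟶ restrictEtale W V),
      p ≫ restrictEtaleHom W U = q ≫ restrictEtaleHom W V → G.obj.map p.op a = G.obj.map q.op b := by
    intro Z p q e
    have e' : p.left ≫ U.ι = q.left ≫ V.ι := congrArg (fun k => k.left) e
    have hle : Set.range (p.left ≫ U.ι).base ⊆ Set.range (U ⊓ V).ι.base := by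
      rw [Scheme.Opens.range_ι]
      rintro _ ⟨z, rfl⟩
      refine ⟨?_, ?_⟩
      · rw [Scheme.Hom.comp_apply]; exact (p.left.base z).2
      · rw [e', Scheme.Hom.comp_apply]; exact (q.left.base z).2
    let r : Z ⟶ restrictEtale W (U ⊓ V) := MorphismProperty.Over.homMk
      (IsOpenImmersion.lift (U ⊓ V).ι (p.left ≫ U.ι) hle) (by
        show IsOpenImmersion.lift (U ⊓ V).ι (p.left ≫ U.ι) hle ≫ (U ⊓ V).ι ≫ W.hom = Z.hom
        rw [← Category.assoc, IsOpenImmersion.lift_fac, Category.assoc]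
        exact MorphismProperty.Over.w p) trivial
    have hr : r ≫ restrictEtaleHom W (U ⊓ V) = p ≫ restrictEtaleHom W U := by
      apply MorphismProperty.Over.Hom.ext
      exact IsOpenImmersion.lift_fac (U ⊓ V).ι (p.left ≫ U.ι) hle
    have hp : p = r ≫ pieceLE W (inf_le_left : U ⊓ V ≤ U) := hsame _ _ _ _ (by
      rw [Category.assoc, pieceLE_comp, hr])
    have hq : q = r ≫ pieceLE W (inf_le_right : U ⊓ V ≤ V) := hsame _ _ _ _ (by
      rw [Category.assoc, pieceLE_comp, hr, e])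
    rw [hp, hq, op_comp, op_comp, Functor.map_comp_apply, Functor.map_comp_apply, h]
  obtain ⟨s, hs', -⟩ := hs t fun i j Z p q e => by
    rcases i with ⟨(_ | _)⟩ <;> rcases j with ⟨(_ | _)⟩
    · rw [hsame _ _ _ _ e]
    · exact (hmix Z q p e.symm).symm
    · exact hmix Z p q e
    · rw [hsame _ _ _ _ e]
  exact ⟨s, hs' ⟨true⟩, hs' ⟨false⟩⟩

/-- A degree one class killed on two opens has a cocycle, and dies wherever the cocycle splits. -/
theorem exists_cocycle (W : X.Etale) (ξ : HT (EtCoh.const X M) 1 W) (U V : W.left.Opens) (hUV : U ⊔ V = ⊤)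
    (hU : HTres _ 1 (restrictEtaleHom W U) ξ = 0) (hV : HTres _ 1 (restrictEtaleHom W V) ξ = 0) :
    ∃ c : W.left → M, (∀ m, IsOpen {w | w ∈ U ∧ w ∈ V ∧ c w = m}) ∧
      ∀ {W' : X.Etale} (h : W' ⟶ W) (fU fV : W'.left → M),
        (∀ m, IsOpen {x | h.left.base x ∈ U ∧ fU x = m}) → (∀ m, IsOpen {x | h.left.base x ∈ V ∧ fV x = m}) →
        (∀ x, h.left.base x ∈ U → h.left.base x ∈ V → c (h.left.base x) = fU x - fV x) →
        HTres (EtCoh.const X M) 1 h ξ = 0 := by
  classical
  let C := EtCoh.const X M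
  let S := ShortComplex.mk (Injective.ι C) (cokernel.π (Injective.ι C)) (cokernel.condition _)
  have hS : S.ShortExact := { exact := ShortComplex.exact_of_g_is_cokernel _ (cokernelIsCokernel _) }
  haveI : Injective S.X₂ := inferInstanceAs (Injective (Injective.under C))
  obtain ⟨y, rfl⟩ := secδ_surjective hS W ξ
  obtain ⟨a, ha⟩ := (secδ_eq_zero_iff hS _ _).1 ((secδ_res hS (restrictEtaleHom W U) y).trans hU)
  obtain ⟨b, hb⟩ := (secδ_eq_zero_iff hS _ _).1 ((secδ_res hS (restrictEtaleHom W V) y).trans hV)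
  let P := restrictEtale W (U ⊓ V)
  let lU : P ⟶ restrictEtale W U := pieceLE W inf_le_left
  let lV : P ⟶ restrictEtale W V := pieceLE W inf_le_right
  let d : S.X₂.obj.obj (op P) := S.X₂.obj.map lU.op a - S.X₂.obj.map lV.op b
  have hd : S.g.hom.app (op P) d = 0 := by
    simp only [d, map_sub, NatTrans.naturality_apply]
    rw [ha, hb, ← Functor.map_comp_apply, ← Functor.map_comp_apply, ← op_comp, ← op_comp, pieceLE_comp,
      pieceLE_comp, sub_self]
  obtain ⟨cP, hcP⟩ : ∃ cP : Sec M P, S.f.hom.app (op P) cP = d := by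
    haveI := hS.mono_f
    have h0 : (zuEquiv P S.X₂).symm d ≫ S.g = 0 := by
      rw [zuEquiv_symm_comp, hd, Equiv.symm_apply_eq, zuEquiv_eq]; rfl
    refine ⟨zuEquiv P C (hS.exact.lift ((zuEquiv P S.X₂).symm d) h0), ?_⟩
    rw [← zuEquiv_comp, ShortComplex.Exact.lift_f, Equiv.apply_symm_apply]
  let c : W.left → M := fun w => if hw : w ∈ U ⊓ V then val cP ⟨w, hw⟩ else 0
  refine ⟨c, fun m => ?_, fun {W'} h fU fV hfU hfV hc => ?_⟩
  · have : {w | w ∈ U ∧ w ∈ V ∧ c w = m} = (U ⊓ V).ι.base '' {p | val cP p = m} := by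
      ext w
      constructor
      · rintro ⟨h1, h2, h3⟩
        exact ⟨⟨w, h1, h2⟩, ((dif_pos (show w ∈ U ⊓ V from ⟨h1, h2⟩)).symm.trans h3 :), rfl⟩
      · rintro ⟨p, hp, rfl⟩
        exact ⟨p.2.1, p.2.2, (dif_pos (show p.1 ∈ U ⊓ V from p.2)).trans hp⟩
    rw [this]
    exact (U ⊓ V).ι.isOpenEmbedding.isOpenMap _ (isLocallyConstant_val cP {m})
  refine (secδ_res hS h y).symm.trans ((secδ_eq_zero_iff hS _ _).2 ?_)
  let U' := h.left ⁻¹ᵁ U
  let V' := h.left ⁻¹ᵁ V
  have hUV' : U' ⊔ V' = ⊤ := by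
    refine eq_top_iff.2 fun x _ => ?_
    have hx : h.left.base x ∈ U ∨ h.left.base x ∈ V := by simpa using (hUV ▸ trivial : h.left.base x ∈ U ⊔ V)
    exact hx.elim (fun hh => Or.inl hh) fun hh => Or.inr hh
  have hlc : ∀ (O : W'.left.Opens) (f : W'.left → M), (∀ m, IsOpen {x | x ∈ O ∧ f x = m}) →
      IsLocallyConstant fun x : (restrictEtale W' O).left => f (O.ι.base x) := fun O f hf =>
    (IsLocallyConstant.iff_isOpen_fiber).2 fun m => by
      have : (fun x : O.toScheme => f (O.ι.base x)) ⁻¹' {m} = O.ι.base ⁻¹' {x | x ∈ O ∧ f x = m} := by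
        ext x; exact ⟨fun hx => ⟨x.2, hx⟩, fun hx => hx.2⟩
      exact this ▸ (hf m).preimage O.ι.continuous
  obtain ⟨σU, hσU⟩ := exists_val (M := M) (restrictEtale W' U') _ (hlc U' fU hfU)
  obtain ⟨σV, hσV⟩ := exists_val (M := M) (restrictEtale W' V') _ (hlc V' fV hfV)
  let kU : restrictEtale W' U' ⟶ restrictEtale W U := restrictEtaleMap h U U' le_rfl
  let kV : restrictEtale W' V' ⟶ restrictEtale W V := restrictEtaleMap h V V' le_rfl
  let a' := S.X₂.obj.map kU.op a - S.f.hom.app _ σU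
  let b' := S.X₂.obj.map kV.op b - S.f.hom.app _ σV
  have hfg : ∀ (O : X.Etale) (z : Sec M O), S.g.hom.app (op O) (S.f.hom.app (op O) z) = 0 := fun O z =>
    congrArg (fun φ : S.X₁ ⟶ S.X₃ => φ.hom.app (op O) z) S.zero
  let P' := restrictEtale W' (U' ⊓ V')
  let kP : P' ⟶ P := restrictEtaleMap h (U ⊓ V) (U' ⊓ V') le_rfl
  have e1 : pieceLE W' (inf_le_left : U' ⊓ V' ≤ U') ≫ kU = kP ≫ lU := MorphismProperty.Over.Hom.ext (by
    refine (cancel_mono U.ι).1 ?_
    show (W'.left.homOfLE (inf_le_left : U' ⊓ V' ≤ U') ≫ h.left.resLE U U' le_rfl) ≫ U.ι =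
      (h.left.resLE (U ⊓ V) (U' ⊓ V') le_rfl ≫ W.left.homOfLE (inf_le_left : U ⊓ V ≤ U)) ≫ U.ι
    simp)
  have e2 : pieceLE W' (inf_le_right : U' ⊓ V' ≤ V') ≫ kV = kP ≫ lV := MorphismProperty.Over.Hom.ext (by
    refine (cancel_mono V.ι).1 ?_
    show (W'.left.homOfLE (inf_le_right : U' ⊓ V' ≤ V') ≫ h.left.resLE V V' le_rfl) ≫ V.ι =
      (h.left.resLE (U ⊓ V) (U' ⊓ V') le_rfl ≫ W.left.homOfLE (inf_le_right : U ⊓ V ≤ V)) ≫ V.ι
    simp)
  have hagree : S.X₂.obj.map (pieceLE W' (inf_le_left : U' ⊓ V' ≤ U')).op a' =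
      S.X₂.obj.map (pieceLE W' (inf_le_right : U' ⊓ V' ≤ V')).op b' := by
    rw [← sub_eq_zero]
    have hcp : C.obj.map kP.op cP = C.obj.map (pieceLE W' (inf_le_left : U' ⊓ V' ≤ U')).op σU -
        C.obj.map (pieceLE W' (inf_le_right : U' ⊓ V' ≤ V')).op σV := ext_val fun z => by
      rw [val_sub, val_res, val_res, val_res, hσU, hσV]
      have hz1 : U'.ι.base ((pieceLE W' (inf_le_left : U' ⊓ V' ≤ U')).left.base z) = z.1 :=
        (Scheme.Hom.comp_apply _ U'.ι z).symm.trans (congr(($(Scheme.homOfLE_ι W'.left (inf_le_left : U' ⊓ V' ≤ U'))).base z))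
      have hz2 : V'.ι.base ((pieceLE W' (inf_le_right : U' ⊓ V' ≤ V')).left.base z) = z.1 :=
        (Scheme.Hom.comp_apply _ V'.ι z).symm.trans (congr(($(Scheme.homOfLE_ι W'.left (inf_le_right : U' ⊓ V' ≤ V'))).base z))
      have hz3 : (kP.left.base z).1 = h.left.base z.1 :=
        (Scheme.Hom.comp_apply _ (U ⊓ V).ι z).symm.trans
          ((congr(($(Scheme.Hom.resLE_comp_ι h.left (le_rfl : U' ⊓ V' ≤ h.left ⁻¹ᵁ (U ⊓ V)))).base z)).trans
            (Scheme.Hom.comp_apply _ _ z))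
      rw [hz1, hz2, ← hc z.1 z.2.1 z.2.2]
      have hm : h.left.base z.1 ∈ U ⊓ V := z.2
      simp only [c, dif_pos hm]
      exact congrArg (val cP) (Subtype.ext hz3)
    simp only [a', b', map_sub, ← NatTrans.naturality_apply, ← Functor.map_comp_apply, ← op_comp, e1, e2]
    rw [op_comp, op_comp, Functor.map_comp_apply, Functor.map_comp_apply, sub_sub_sub_comm, ← map_sub, ← map_sub,
      ← hcp]
    exact sub_eq_zero.2 ((congrArg (S.X₂.obj.map kP.op).hom hcP.symm).trans
      (NatTrans.naturality_apply S.f.hom kP.op cP).symm)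
  obtain ⟨s, hs1, hs2⟩ := exists_glue_two S.X₂ W' U' V' hUV' a' b' hagree
  refine ⟨s, ?_⟩
  refine EtFound.eq_of_cover S.X₃ _ _ ((EtFound.mem_topology_iff _).2 fun x => ?_)
  have hx : x ∈ U' ∨ x ∈ V' := by simpa using (hUV' ▸ trivial : x ∈ U' ⊔ V')
  rcases hx with hx | hx
  · refine ⟨_, restrictEtaleHom W' U', ⟨x, hx⟩, ?_, rfl⟩
    show S.X₃.obj.map _ _ = S.X₃.obj.map _ _
    rw [← NatTrans.naturality_apply, hs1, map_sub, hfg, sub_zero, NatTrans.naturality_apply, ha,
      ← Functor.map_comp_apply, ← Functor.map_comp_apply, ← op_comp, ← op_comp,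
      restrictEtaleMap_comp]
  · refine ⟨_, restrictEtaleHom W' V', ⟨x, hx⟩, ?_, rfl⟩
    show S.X₃.obj.map _ _ = S.X₃.obj.map _ _
    rw [← NatTrans.naturality_apply, hs2, map_sub, hfg, sub_zero, NatTrans.naturality_apply, hb,
      ← Functor.map_comp_apply, ← Functor.map_comp_apply, ← op_comp, ← op_comp,
      restrictEtaleMap_comp]

end Groth.Agent.EtPBC63.Core
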