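import Groth.Agent.EtDerLib.Acyc
import Groth.Agent.EtPBC63.Core.Const
import Groth.Agent.BigSiteLib.OpenSection

/-!
# Classes on the small etale site killed on two opens
-/

universe u

open CategoryTheory CategoryTheory.Limits AlgebraicGeometry Opposite TopologicalSpace CategoryTheory.Abelian

namespace Groth.Agent.EtPBC63.Core

open EtFound EtDerLib

set_option linter.style.haveILetI false
set_option backward.isDefEq.respectTransparency.types false

variable {X : Scheme.{u}}

theorem ZUmap_comp {A B C : X.Etale} (f : A ⟶ B) (g : B ⟶ C) : ZUmap (f ≫ g) = ZUmap f ≫ ZUmap g := by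
  simp [ZUmap]; rfl

theorem HTres_comp (F : EtCoh.Ab X) (n : ℕ) {A B C : X.Etale} (f : A ⟶ B) (g : B ⟶ C) (x : HT F n C) :
    HTres F n (f ≫ g) x = HTres F n f (HTres F n g x) := by
  show (Ext.mk₀ (ZUmap (f ≫ g))).comp x (zero_add n) = _
  rw [ZUmap_comp, ← Ext.mk₀_comp_mk₀, Ext.comp_assoc _ _ _ (zero_add 0) (zero_add n) (by omega)]
  rfl

theorem HTres_eq_zero_of_factor (F : EtCoh.Ab X) (n : ℕ) {A B C : X.Etale} (f : A ⟶ C) (g : B ⟶ C) (l : A ⟶ B)
    (e : l ≫ g = f) (x : HT F n C) (h : HTres F n g x = 0) : HTres F n f x = 0 := by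
  rw [← e, HTres_comp, h, map_zero]

theorem isZero_ZU_of_isEmpty (W : X.Etale) [IsEmpty ↥W.left] : IsZero (ZU W) := by
  refine (IsZero.iff_id_eq_zero _).2 ((zuEquiv W (ZU W)).injective ?_)
  exact EtFound.eq_of_cover (ZU W) _ _ ((EtFound.mem_topology_iff _).2 fun x => isEmptyElim x)

theorem HT_subsingleton_of_isEmpty (F : EtCoh.Ab X) (n : ℕ) (W : X.Etale) [IsEmpty ↥W.left] :
    Subsingleton (HT F n W) := by
  refine ⟨fun x y => ?_⟩
  have h0 : (Ext.mk₀ (𝟙 (ZU W)) : Ext (ZU W) (ZU W) 0) = 0 := by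
    rw [(IsZero.iff_id_eq_zero _).1 (isZero_ZU_of_isEmpty W)]; exact Ext.mk₀_zero (X := ZU W) (Y := ZU W)
  have hz : ∀ z : HT F n W, z = 0 := fun z => by
    rw [← Ext.mk₀_id_comp z, h0, Ext.zero_comp]
  rw [hz x, hz y]

theorem free_map_injective {α β : Type (u + 1)} (g : α → β) (hg : Function.Injective g) :
    Function.Injective (FreeAbelianGroup.map g) := by
  have key : ∀ x, FreeAbelianGroup.toFinsupp (FreeAbelianGroup.map g x) =
      Finsupp.mapDomain g (FreeAbelianGroup.toFinsupp x) := fun x => by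
    induction x using FreeAbelianGroup.induction_on with
    | zero => simp
    | of a => simp
    | neg a h => rw [map_neg, map_neg, map_neg, h]; exact (map_neg (Finsupp.mapDomain.addMonoidHom (M := ℤ) g) _).symm
    | add a b ha hb => simp only [map_add, ha, hb, Finsupp.mapDomain_add]
  intro x y hxy
  refine (FreeAbelianGroup.equivFinsupp α).injective (Finsupp.mapDomain_injective hg ?_)
  exact (key x).symm.trans ((congrArg FreeAbelianGroup.toFinsupp hxy).trans (key y))

theorem mono_ZUmap {A B : X.Etale} (m : A ⟶ B) [Mono m] : Mono (ZUmap m) := by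
  haveI : ∀ Z, Mono ((Functor.whiskerRight (uliftYoneda.{u + 1}.map m) AddCommGrpCat.free.{u + 1}).app Z) := fun Z => by
    refine (AddCommGrpCat.mono_iff_injective _).2 (free_map_injective _ fun s t hst => ?_)
    exact ULift.ext _ _ ((cancel_mono m).1 (congrArg ULift.down hst))
  haveI := NatTrans.mono_of_mono_app (Functor.whiskerRight (uliftYoneda.{u + 1}.map m) AddCommGrpCat.free.{u + 1})
  exact Functor.map_mono (presheafToSheaf X.smallEtaleTopology AddCommGrpCat.{u + 1}) _

/-- Sections of an injective sheaf extend along monomorphisms. -/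
theorem exists_extend (I : EtCoh.Ab X) [Injective I] {A B : X.Etale} (m : A ⟶ B) [Mono m]
    (x : I.obj.obj (op A)) : ∃ y, I.obj.map m.op y = x := by
  haveI := mono_ZUmap m
  refine ⟨zuEquiv B I (Injective.factorThru ((zuEquiv A I).symm x) (ZUmap m)), ?_⟩
  rw [← zuEquiv_ZUmap, Injective.comp_factorThru, Equiv.apply_symm_apply]

instance mono_pieceLE (W : X.Etale) {O O' : W.left.Opens} (h : O ≤ O') : Mono (pieceLE W h) := by
  refine (MorphismProperty.Over.forget EtCoh.etaleMP.{u} ⊤ X ⋙ Over.forget X).mono_of_mono_map ?_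
  show Mono (W.left.homOfLE h)
  infer_instance

/-- A class of degree at least two killed on two opens vanishes if the previous degree vanishes on the overlap. -/
theorem HT_eq_zero_of_two (W : X.Etale) (U V : W.left.Opens) (hUV : U ⊔ V = ⊤) :
    ∀ (q : ℕ) (F : EtCoh.Ab X), Subsingleton (HT F (q + 1) (restrictEtale W (U ⊓ V))) →
      ∀ ξ : HT F (q + 2) W, HTres F (q + 2) (restrictEtaleHom W U) ξ = 0 →
        HTres F (q + 2) (restrictEtaleHom W V) ξ = 0 → ξ = 0 := by
  intro q
  induction q with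
  | zero =>
    intro F hF ξ hU hV
    let S := ShortComplex.mk (Injective.ι F) (cokernel.π (Injective.ι F)) (cokernel.condition _)
    have hS : S.ShortExact := { exact := ShortComplex.exact_of_g_is_cokernel _ (cokernelIsCokernel _) }
    haveI : Injective S.X₂ := inferInstanceAs (Injective (Injective.under F))
    let T := ShortComplex.mk (Injective.ι S.X₃) (cokernel.π (Injective.ι S.X₃)) (cokernel.condition _)
    have hT : T.ShortExact := { exact := ShortComplex.exact_of_g_is_cokernel _ (cokernelIsCokernel _) }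
    haveI : Injective T.X₂ := inferInstanceAs (Injective (Injective.under S.X₃))
    obtain ⟨η, rfl⟩ := (δ_bijective hS 0 W).2 ξ
    have hres : ∀ (O : W.left.Opens), HTres F (0 + 2) (restrictEtaleHom W O) (η.comp hS.extClass rfl) = 0 →
        HTres S.X₃ 1 (restrictEtaleHom W O) η = 0 := fun O h => by
      refine (δ_bijective hS 0 _).1 ?_
      show (HTres S.X₃ 1 (restrictEtaleHom W O) η).comp hS.extClass rfl = (0 : HT S.X₃ 1 _).comp hS.extClass rfl
      rw [← HTres_comp_apply, Ext.zero_comp]; exact h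
    obtain ⟨y, rfl⟩ := secδ_surjective hT W η
    obtain ⟨a, ha⟩ := (secδ_eq_zero_iff hT _ _).1 ((secδ_res hT (restrictEtaleHom W U) y).trans (hres U hU))
    obtain ⟨b, hb⟩ := (secδ_eq_zero_iff hT _ _).1 ((secδ_res hT (restrictEtaleHom W V) y).trans (hres V hV))
    suffices secδ hT W y = 0 by rw [this]; exact Ext.zero_comp _ _ hS.extClass _ _
    refine (secδ_eq_zero_iff hT _ _).2 ?_
    let P := restrictEtale W (U ⊓ V)
    let lU : P ⟶ restrictEtale W U := pieceLE W inf_le_left
    let lV : P ⟶ restrictEtale W V := pieceLE W inf_le_right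
    let d : T.X₂.obj.obj (op P) := T.X₂.obj.map lU.op a - T.X₂.obj.map lV.op b
    have hd : T.g.hom.app (op P) d = 0 := by
      simp only [d, map_sub, NatTrans.naturality_apply]
      rw [ha, hb, ← Functor.map_comp_apply, ← Functor.map_comp_apply, ← op_comp, ← op_comp, pieceLE_comp,
        pieceLE_comp, sub_self]
    obtain ⟨cP, hcP⟩ : ∃ cP : T.X₁.obj.obj (op P), T.f.hom.app (op P) cP = d := by
      haveI := hT.mono_f
      have h0 : (zuEquiv P T.X₂).symm d ≫ T.g = 0 := by
        rw [zuEquiv_symm_comp, hd, Equiv.symm_apply_eq, zuEquiv_eq]; rfl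
      refine ⟨zuEquiv P T.X₁ (hT.exact.lift ((zuEquiv P T.X₂).symm d) h0), ?_⟩
      rw [← zuEquiv_comp, ShortComplex.Exact.lift_f, Equiv.apply_symm_apply]
    obtain ⟨e, he⟩ := (secδ_eq_zero_iff hS P cP).1 (Subsingleton.elim _ _)
    obtain ⟨eU, heU⟩ := exists_extend S.X₂ lU e
    let z : S.X₃.obj.obj (op (restrictEtale W U)) := S.g.hom.app _ eU
    let a' : T.X₂.obj.obj (op (restrictEtale W U)) := a - T.f.hom.app _ z
    have hagree : T.X₂.obj.map lU.op a' = T.X₂.obj.map lV.op b := by
      have hz : S.X₃.obj.map lU.op z = cP :=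
        (NatTrans.naturality_apply S.g.hom lU.op eU).symm.trans ((congrArg (S.g.hom.app (op P)) heU).trans he)
      have hz' : T.X₂.obj.map lU.op (T.f.hom.app _ z) = d :=
        (NatTrans.naturality_apply T.f.hom lU.op z).symm.trans ((congrArg (T.f.hom.app (op P)) hz).trans hcP)
      simp only [a', map_sub, hz', d]
      abel
    obtain ⟨s, hs1, hs2⟩ := exists_glue_two T.X₂ W U V hUV a' b hagree
    refine ⟨s, EtFound.eq_of_cover T.X₃ _ _ ((EtFound.mem_topology_iff _).2 fun x => ?_)⟩
    have hfg : ∀ (O : X.Etale) (w : T.X₁.obj.obj (op O)), T.g.hom.app (op O) (T.f.hom.app (op O) w) = 0 := fun O w =>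
      congrArg (fun φ : T.X₁ ⟶ T.X₃ => φ.hom.app (op O) w) T.zero
    have hx : x ∈ U ∨ x ∈ V := by simpa using (hUV ▸ trivial : x ∈ U ⊔ V)
    rcases hx with hx | hx
    · refine ⟨_, restrictEtaleHom W U, ⟨x, hx⟩, ?_, rfl⟩
      show T.X₃.obj.map _ _ = T.X₃.obj.map _ _
      rw [← NatTrans.naturality_apply, hs1, map_sub, hfg, sub_zero, ha]
    · refine ⟨_, restrictEtaleHom W V, ⟨x, hx⟩, ?_, rfl⟩
      show T.X₃.obj.map _ _ = T.X₃.obj.map _ _
      rw [← NatTrans.naturality_apply, hs2, hb]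
  | succ q ih =>
    intro F hF ξ hU hV
    let S := ShortComplex.mk (Injective.ι F) (cokernel.π (Injective.ι F)) (cokernel.condition _)
    have hS : S.ShortExact := { exact := ShortComplex.exact_of_g_is_cokernel _ (cokernelIsCokernel _) }
    haveI : Injective S.X₂ := inferInstanceAs (Injective (Injective.under F))
    obtain ⟨η, rfl⟩ := (δ_bijective hS (q + 1) W).2 ξ
    have hres : ∀ (O : W.left.Opens), HTres F (q + 1 + 2) (restrictEtaleHom W O) (η.comp hS.extClass rfl) = 0 →
        HTres S.X₃ (q + 2) (restrictEtaleHom W O) η = 0 := fun O h => by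
      refine (δ_bijective hS (q + 1) _).1 ?_
      show (HTres S.X₃ (q + 2) (restrictEtaleHom W O) η).comp hS.extClass rfl =
        (0 : HT S.X₃ (q + 2) _).comp hS.extClass rfl
      rw [← HTres_comp_apply, Ext.zero_comp]; exact h
    have : Subsingleton (HT S.X₃ (q + 1) (restrictEtale W (U ⊓ V))) :=
      (δ_bijective hS q (restrictEtale W (U ⊓ V))).1.subsingleton
    rw [ih S.X₃ this η (hres U hU) (hres V hV)]
    exact Ext.zero_comp _ _ hS.extClass _ _

/-- On an open where the local rings are strictly henselian, classes of positive degree die Zariski locally. -/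
theorem exists_open_HTres_eq_zero (W : X.Etale) {S : Scheme.{u}} (e : W.left ≅ S)
    (hS : ∀ s : S, EtCoh.IsStrictlyHenselianLocalRing (S.presheaf.stalk s))
    (F : EtCoh.Ab X) (q : ℕ) (ξ : HT F (q + 1) W) (w : W.left) :
    ∃ O : W.left.Opens, w ∈ O ∧ HTres F (q + 1) (restrictEtaleHom W O) ξ = 0 := by
  obtain ⟨W', g, ⟨w', rfl⟩, h0⟩ := exists_HTres_eq_zero q F W ξ w
  haveI : AlgebraicGeometry.Etale W'.hom := W'.prop
  haveI : AlgebraicGeometry.Etale W.hom := W.prop
  haveI : AlgebraicGeometry.Etale g.left := EtFound.etale_left g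
  obtain ⟨O, σ, hO, hσ, -⟩ := BigSiteLib.exists_open_section_mem hS (g.left ≫ e.hom) w'
  refine ⟨e.hom ⁻¹ᵁ O, by rw [Scheme.Hom.comp_apply] at hO; exact hO, ?_⟩
  let l : restrictEtale W (e.hom ⁻¹ᵁ O) ⟶ W' := MorphismProperty.Over.homMk ((e.hom ∣_ O) ≫ σ) (by
    show ((e.hom ∣_ O) ≫ σ) ≫ W'.hom = (e.hom ⁻¹ᵁ O).ι ≫ W.hom
    have h1 : ((e.hom ∣_ O) ≫ σ) ≫ g.left = (e.hom ⁻¹ᵁ O).ι := by
      rw [← cancel_mono e.hom]
      simp only [Category.assoc, hσ, morphismRestrict_ι]
    rw [← MorphismProperty.Over.w g, ← Category.assoc, h1]) trivial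
  refine HTres_eq_zero_of_factor F (q + 1) _ g l (MorphismProperty.Over.Hom.ext ?_) ξ h0
  show ((e.hom ∣_ O) ≫ σ) ≫ g.left = (e.hom ⁻¹ᵁ O).ι
  rw [← cancel_mono e.hom]
  simp only [Category.assoc, hσ, morphismRestrict_ι]

end Groth.Agent.EtPBC63.Core
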