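import Groth.Prelude.Def_Curves
import Groth.Prelude.Def_EtBase
import Groth.Agent.ModPairLocal.AIC
import Mathlib.RingTheory.Spectrum.Prime.Topology
import Mathlib.RingTheory.Henselian
import Mathlib.FieldTheory.IsSepClosed

/-!
# Rings integrally closed in a zero-dimensional ring with all monic roots
-/

universe u

open CategoryTheory CategoryTheory.Limits AlgebraicGeometry Polynomial Topology

namespace Groth.Agent.EtPBC63.Core

set_option backward.isDefEq.respectTransparency.types false
set_option linter.style.haveILetI false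

theorem henselian_of_isAIC {A : Type u} [CommRing A] [IsLocalRing A] (h : Curves.IsAIC A) :
    HenselianLocalRing A := by
  refine HenselianLocalRing.mk fun f hf a₀ h1 h2 => ?_
  suffices ∀ (n : ℕ) (g : A[X]), g.Monic → g.natDegree = n → g.eval a₀ ∈ IsLocalRing.maximalIdeal A →
      IsUnit (g.derivative.eval a₀) → ∃ r, g.IsRoot r ∧ r - a₀ ∈ IsLocalRing.maximalIdeal A from
    this _ f hf rfl h1 h2
  intro n
  induction n with
  | zero =>
    intro g hg hn he _
    rw [hg.natDegree_eq_zero.mp hn, eval_one] at he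
    exact absurd ((Ideal.eq_top_iff_one _).2 he) (IsLocalRing.maximalIdeal.isMaximal A).ne_top
  | succ n ih =>
    intro g hg hn he hu
    obtain ⟨r, hr⟩ := h g hg (by omega)
    by_cases hra : r - a₀ ∈ IsLocalRing.maximalIdeal A
    · exact ⟨r, hr, hra⟩
    obtain ⟨q, rfl⟩ := dvd_iff_isRoot.mpr (show g.IsRoot r from hr)
    have hq : q.Monic := (monic_X_sub_C r).of_mul_monic_left hg
    have hqn : q.natDegree = n := by
      rw [(monic_X_sub_C r).natDegree_mul hq, natDegree_X_sub_C] at hn; omega
    have hu' : IsUnit (a₀ - r) := by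
      by_contra hc
      exact hra (by simpa using (IsLocalRing.maximalIdeal A).neg_mem hc)
    rw [eval_mul, eval_sub, eval_X, eval_C] at he
    have hqa : q.eval a₀ ∈ IsLocalRing.maximalIdeal A :=
      ((IsLocalRing.maximalIdeal.isMaximal A).isPrime.mem_or_mem he).resolve_left
        fun hc => (IsLocalRing.mem_maximalIdeal _).mp hc hu'
    rw [derivative_mul, derivative_X_sub_C, one_mul, eval_add, eval_mul, eval_sub, eval_X, eval_C] at hu
    have hu'' : IsUnit ((a₀ - r) * q.derivative.eval a₀) := by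
      by_contra hc
      exact (IsLocalRing.mem_maximalIdeal _).mp ((IsLocalRing.maximalIdeal A).add_mem hqa hc) hu
    obtain ⟨s, hs, hs'⟩ := ih q hq hqn hqa (isUnit_of_mul_isUnit_right hu'')
    exact ⟨s, by rw [IsRoot, eval_mul, hs.eq_zero, mul_zero], hs'⟩

theorem isStrictlyHenselian_of_isAIC {A : Type u} [CommRing A] [IsLocalRing A] (h : Curves.IsAIC A) :
    EtCoh.IsStrictlyHenselianLocalRing A := by
  refine ⟨henselian_of_isAIC h, ?_⟩
  haveI : IsAlgClosed (IsLocalRing.ResidueField A) := IsAlgClosed.of_exists_root _ fun p hp hirr =>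
    ModPairLocal.isAIC_quotient h (IsLocalRing.maximalIdeal A) p hp hirr.natDegree_pos
  infer_instance

/-- All local rings of an absolutely integrally closed ring are strictly henselian. -/
theorem isStrictlyHenselian_stalk {R : CommRingCat.{u}} (h : Curves.IsAIC R) (p : Spec R) :
    EtCoh.IsStrictlyHenselianLocalRing ((Spec R).presheaf.stalk p) := by
  haveI : IsLocalization.AtPrime ((Spec.structureSheaf R).presheaf.stalk p) p.asIdeal :=
    StructureSheaf.IsLocalization.to_stalk R p
  haveI : Nontrivial ((Spec.structureSheaf R).presheaf.stalk p) :=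
    IsLocalization.AtPrime.nontrivial ((Spec.structureSheaf R).presheaf.stalk p) p.asIdeal
  exact isStrictlyHenselian_of_isAIC (ModPairLocal.isAIC_localization (A := R)
    (B := (Spec.structureSheaf R).presheaf.stalk p) p.asIdeal.primeCompl h)

/-- `R` is integrally closed in the reduced zero-dimensional `K`, which has roots of all monic polynomials. -/
structure AICBase (R K : Type u) [CommRing R] [CommRing K] [Algebra R K] : Prop where
  reduced : IsReduced K
  dimZero : Ring.KrullDimLE 0 K
  aic : Curves.IsAIC K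
  inj : Function.Injective (algebraMap R K)
  closed : ∀ x : K, IsIntegral R x → x ∈ Set.range (algebraMap R K)

namespace AICBase

variable {R K : Type u} [CommRing R] [CommRing K] [Algebra R K] (h : AICBase R K)

include h

theorem isAIC : Curves.IsAIC R := by
  intro f hf hd
  by_cases hK : Nontrivial K
  · obtain ⟨x, hx⟩ := h.aic (f.map (algebraMap R K)) (hf.map _) (by rwa [hf.natDegree_map])
    rw [eval_map] at hx
    obtain ⟨r, rfl⟩ := h.closed x ⟨f, hf, hx⟩
    rw [eval₂_at_apply] at hx
    exact ⟨r, h.inj (hx.trans (map_zero _).symm)⟩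
  · rw [not_nontrivial_iff_subsingleton] at hK
    exact ⟨0, h.inj (Subsingleton.elim _ _)⟩

/-- Every clopen of `Spec K` comes from a clopen of `Spec R`. -/
theorem exists_clopen {C : Set (PrimeSpectrum K)} (hC : IsClopen C) :
    ∃ D : Set (PrimeSpectrum R), IsClopen D ∧ PrimeSpectrum.comap (algebraMap R K) ⁻¹' D = C := by
  obtain ⟨e, he, rfl⟩ := PrimeSpectrum.isClopen_iff.mp hC
  obtain ⟨r, rfl⟩ := h.closed e ⟨X * (X - C 1), monic_X.mul (monic_X_sub_C 1),
    by rw [eval₂_mul, eval₂_sub, eval₂_X, eval₂_C, map_one, mul_sub, he.eq, mul_one, sub_self]⟩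
  have hr : IsIdempotentElem r := h.inj (by rw [map_mul]; exact he.eq)
  exact ⟨PrimeSpectrum.basicOpen r, PrimeSpectrum.isClopen_iff.mpr ⟨r, hr, rfl⟩, rfl⟩

theorem specializes_eq {x y : PrimeSpectrum K} (hxy : x ⤳ y) : x = y := by
  haveI := h.dimZero
  refine PrimeSpectrum.ext ((x.isPrime.isMaximal').eq_of_le y.isPrime.ne_top ?_)
  exact (PrimeSpectrum.le_iff_specializes x y).2 hxy

theorem isClopen_basicOpen (a : K) : IsClopen (PrimeSpectrum.basicOpen a : Set (PrimeSpectrum K)) := by
  haveI := h.dimZero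
  refine ⟨?_, (PrimeSpectrum.basicOpen a).isOpen⟩
  refine PrimeSpectrum.isClosed_of_stableUnderSpecialization_of_isConstructible ?_
    (PrimeSpectrum.isConstructible_basicOpen)
  intro x y hxy hx
  rwa [← h.specializes_eq hxy]

/-- Every point generalises to a point of `Spec K`. -/
theorem exists_specializes (p : PrimeSpectrum R) :
    ∃ κ : PrimeSpectrum K, PrimeSpectrum.comap (algebraMap R K) κ ⤳ p := by
  obtain ⟨q, hq, hqp⟩ := Ideal.exists_minimalPrimes_le (bot_le (a := p.asIdeal))
  obtain ⟨κ, hκ, hκq⟩ := Ideal.exists_comap_eq_of_mem_minimalPrimes_of_injective h.inj q hq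
  exact ⟨⟨κ, hκ⟩, (PrimeSpectrum.le_iff_specializes _ p).1 (show κ.comap (algebraMap R K) ≤ p.asIdeal from hκq ▸ hqp)⟩

/-- Only one point of `Spec K` generalises a given point. -/
theorem specializes_unique {p : PrimeSpectrum R} {κ κ' : PrimeSpectrum K}
    (h1 : PrimeSpectrum.comap (algebraMap R K) κ ⤳ p) (h2 : PrimeSpectrum.comap (algebraMap R K) κ' ⤳ p) :
    κ = κ' := by
  by_contra hne
  obtain ⟨a, ha, ha'⟩ : ∃ a, a ∈ κ'.asIdeal ∧ a ∉ κ.asIdeal := by
    by_contra hc
    push Not at hc
    exact hne (h.specializes_eq ((PrimeSpectrum.le_iff_specializes κ' κ).1 hc)).symm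
  obtain ⟨U, hU, hκ, hκ'⟩ : ∃ U : Set (PrimeSpectrum K), IsClopen U ∧ κ ∈ U ∧ κ' ∉ U :=
    ⟨_, h.isClopen_basicOpen a, ha', fun hx => hx ha⟩
  obtain ⟨D, hD, rfl⟩ := h.exists_clopen hU
  have hp : p ∈ D := h1.mem_closed hD.isClosed hκ
  exact hκ' (h2.mem_open hD.isOpen hp)

end AICBase

end Groth.Agent.EtPBC63.Core
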