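import Groth.Agent.EtPBC63.Core.Normal
import Groth.Agent.BigSiteLib.OpenSection
import Groth.Agent.EtFound.SectionUnr
import Groth.Agent.Hensel.FiniteEtaleLift

/-!
# Étale affine schemes over a totally integrally closed ring split into sheets, and finite étale covers of
closed subschemes have sections
-/

universe u

open CategoryTheory CategoryTheory.Limits AlgebraicGeometry Topology TopologicalSpace

namespace Groth.Agent.EtPBC63.Core

set_option backward.isDefEq.respectTransparency.types false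
set_option linter.style.haveILetI false

variable {X V : Scheme.{u}}

/-- A local section has open range, relatively closed over its domain. -/
theorem range_section_props (v : V ⟶ X) [Etale v] [IsSeparated v] {O : X.Opens} (s : O.toScheme ⟶ V)
    (hs : s ≫ v = O.ι) :
    IsOpen (Set.range s.base) ∧ IsClosed (Set.range s.base ∪ (v.base ⁻¹' (O : Set X))ᶜ) ∧
      (∀ x : O.toScheme, v.base (s.base x) = x.1) := by
  have hpt : ∀ x : O.toScheme, v.base (s.base x) = x.1 := fun x =>
    (Scheme.Hom.comp_apply s v x).symm.trans (congr(($hs).base x))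
  have hle : Set.range s.base ⊆ Set.range (v ⁻¹ᵁ O).ι.base := by
    rintro _ ⟨x, rfl⟩
    rw [Scheme.Opens.range_ι]
    show v.base (s.base x) ∈ O
    rw [hpt]; exact x.2
  let s' := IsOpenImmersion.lift (v ⁻¹ᵁ O).ι s hle
  have e : s' ≫ (v ⁻¹ᵁ O).ι = s := IsOpenImmersion.lift_fac _ _ _
  have hs' : s' ≫ (v ∣_ O) = 𝟙 _ := by
    rw [← cancel_mono O.ι, Category.assoc, morphismRestrict_ι, ← Category.assoc, e, hs, Category.id_comp]
  haveI : Etale (v ∣_ O) := MorphismProperty.of_isPullback (isPullback_morphismRestrict v O).flip inferInstance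
  haveI : IsSeparated (v ∣_ O) := MorphismProperty.of_isPullback (isPullback_morphismRestrict v O).flip inferInstance
  haveI := EtFound.isOpenImmersion_section (v ∣_ O) s' hs'
  have hc := EtFound.isClosed_range_section (v ∣_ O) s' hs'
  have hr : Set.range s.base = (v ⁻¹ᵁ O).ι.base '' Set.range s'.base := by
    rw [← Set.range_comp]; exact congrArg Set.range (funext fun x => (congr(($e).base x)).symm)
  refine ⟨?_, ?_, hpt⟩
  · rw [hr]
    exact (v ⁻¹ᵁ O).ι.isOpenEmbedding.isOpenMap _ s'.isOpenEmbedding.isOpen_range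
  · have : (Set.range s.base ∪ (v.base ⁻¹' (O : Set X))ᶜ) =
        ((v ⁻¹ᵁ O).ι.base '' (Set.range s'.base)ᶜ)ᶜ := by
      rw [hr, Set.image_compl_eq_range_sdiff_image (v ⁻¹ᵁ O).ι.isOpenEmbedding.injective,
        Scheme.Opens.range_ι, Set.compl_sdiff]
      rfl
    rw [this]
    exact ((v ⁻¹ᵁ O).ι.isOpenEmbedding.isOpenMap _ hc.isOpen_compl).isClosed_compl

variable {R K : Type u} [CommRing R] [CommRing K] [Algebra R K]

/-- A separated quasi-compact étale scheme over `Spec R` splits into finitely many sheets. -/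
theorem exists_sheets (h : AICBase R K) {V : Scheme.{u}} (v : V ⟶ Spec (CommRingCat.of R)) [Etale v]
    [IsSeparated v] [CompactSpace V] :
    ∃ (n : ℕ) (j : V → Fin n), IsLocallyConstant j ∧
      ∀ q q', v.base q = v.base q' → j q = j q' → q = q' := by
  classical
  let X := Spec (CommRingCat.of R)
  let g : PrimeSpectrum K → ↥X := PrimeSpectrum.comap (algebraMap R K)
  have hgc : Continuous g := PrimeSpectrum.continuous_comap _
  let bo : R → X.Opens := fun r => PrimeSpectrum.basicOpen r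
  have hloc : ∀ q : V, ∃ (r : R) (s : (bo r).toScheme ⟶ V),
      s ≫ v = (bo r).ι ∧ q ∈ Set.range s.base := by
    intro q
    obtain ⟨W, s, hW, hs, x, hx⟩ := BigSiteLib.exists_open_section_mem
      (fun p => isStrictlyHenselian_stalk (R := CommRingCat.of R) h.isAIC p) v q
    obtain ⟨-, ⟨r, rfl⟩, hr, hrW⟩ := PrimeSpectrum.isTopologicalBasis_basic_opens.exists_subset_of_mem_open
      x.2 W.2
    let O : X.Opens := bo r
    refine ⟨r, X.homOfLE (show O ≤ W from hrW) ≫ s, by rw [Category.assoc, hs, Scheme.homOfLE_ι],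
      ⟨⟨x.1, hr⟩, ?_⟩⟩
    rw [Scheme.Hom.comp_apply]
    refine (congrArg s.base ?_).trans hx
    exact Subtype.ext ((Scheme.Hom.comp_apply (X.homOfLE (show O ≤ W from hrW)) W.ι ⟨x.1, hr⟩).symm.trans
      (congr(($(Scheme.homOfLE_ι X (show O ≤ W from hrW))).base ⟨x.1, hr⟩)))
  choose r' s' hs' hq' using hloc
  obtain ⟨F, hF⟩ := isCompact_univ.elim_finite_subcover (fun q : V => Set.range (s' q).base)
    (fun q => (range_section_props v (s' q) (hs' q)).1) fun q _ => Set.mem_iUnion.mpr ⟨q, hq' q⟩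
  obtain ⟨n, ⟨e⟩⟩ := Finite.exists_equiv_fin ↥F
  let O : Fin n → X.Opens := fun a => bo (r' (e.symm a).1)
  let s : ∀ a, (O a).toScheme ⟶ V := fun a => s' (e.symm a).1
  have hs : ∀ a, s a ≫ v = (O a).ι := fun a => hs' _
  have hcov : ∀ q : V, ∃ a, q ∈ Set.range (s a).base := fun q => by
    obtain ⟨q₀, hq₀, hq⟩ := Set.mem_iUnion₂.mp (hF (Set.mem_univ q))
    refine ⟨e ⟨q₀, hq₀⟩, ?_⟩
    show q ∈ Set.range (s' (e.symm (e ⟨q₀, hq₀⟩)).1).base
    rw [e.symm_apply_apply]; exact hq
  have hopen := fun a => (range_section_props v (s a) (hs a)).1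
  have hclosed := fun a => (range_section_props v (s a) (hs a)).2.1
  have hpt := fun a => (range_section_props v (s a) (hs a)).2.2
  choose η hη using h.exists_specializes
  have huniq : ∀ (p : X) κ, g κ ⤳ p → κ = η p := fun p κ hκ => h.specializes_unique hκ (hη p)
  have hmem : ∀ (p : X) a, p ∈ O a → g (η p) ∈ O a := fun p a hp => (hη p).mem_open (O a).2 hp
  -- the points where the `b`-th sheet contains the value of the `a`-th section
  let S : Fin n → Fin n → Set ↥X := fun a b => {x | ∃ hx : x ∈ O a, (s a).base ⟨x, hx⟩ ∈ Set.range (s b).base}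
  have hSb : ∀ a b x, x ∈ S a b → x ∈ O b := by
    rintro a b x ⟨hx, y, hy⟩
    have := congrArg v.base hy
    rw [hpt, hpt] at this
    exact (show y.1 = x from this) ▸ y.2
  have hSopen : ∀ a b, IsOpen (S a b) := fun a b => by
    have : S a b = (O a).ι.base '' ((s a).base ⁻¹' Set.range (s b).base) := by
      ext x
      exact ⟨fun ⟨hx, hx'⟩ => ⟨⟨x, hx⟩, hx', rfl⟩, fun ⟨y, hy, hyx⟩ => hyx ▸ ⟨y.2, hy⟩⟩
    rw [this]
    exact (O a).ι.isOpenEmbedding.isOpenMap _ ((hopen b).preimage (s a).continuous)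
  have hSclosed : ∀ a b x x', x' ⤳ x → x ∈ O a → x ∈ O b → x' ∈ S a b → x ∈ S a b := by
    rintro a b x x' hsp hxa hxb ⟨hx', h'⟩
    refine ⟨hxa, ?_⟩
    have h1 : (s a).base ⟨x', hx'⟩ ⤳ (s a).base ⟨x, hxa⟩ :=
      ((subtype_specializes_iff (⟨x', hx'⟩ : (O a : Set ↥X)) ⟨x, hxa⟩).2 hsp).map (s a).continuous
    rcases h1.mem_closed (hclosed b) (Or.inl h') with h2 | h2
    · exact h2
    · exact absurd (show v.base ((s a).base ⟨x, hxa⟩) ∈ (O b : Set ↥X) by rw [hpt]; exact hxb) h2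
  have hSspec : ∀ a b p, p ∈ O a → p ∈ O b → (p ∈ S a b ↔ g (η p) ∈ S a b) := fun a b p hpa hpb =>
    ⟨fun hp => (hη p).mem_open (hSopen a b) hp, fun hp => hSclosed a b p _ (hη p) hpa hpb hp⟩
  -- the value of a point at the corresponding point of `Spec K`
  choose a₀ x₀ hx₀ using hcov
  have hv₀ : ∀ q, v.base q = (x₀ q).1 := fun q => by
    rw [← hpt (a₀ q) (x₀ q)]; exact congrArg v.base (hx₀ q).symm
  let ep : V → V := fun q => (s (a₀ q)).base ⟨g (η (x₀ q).1), hmem _ _ (x₀ q).2⟩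
  have hep : ∀ (q : V) (a : Fin n) (p : ↥X) (hp : p ∈ O a), (s a).base ⟨p, hp⟩ = q →
      ep q = (s a).base ⟨g (η p), hmem p a hp⟩ := by
    intro q a p hp hq
    obtain rfl : p = (x₀ q).1 := by rw [← hv₀, ← hq]; exact (hpt a ⟨p, hp⟩).symm
    have hS : (x₀ q).1 ∈ S (a₀ q) a := ⟨(x₀ q).2, ⟨(x₀ q).1, hp⟩, hq.trans (hx₀ q).symm⟩
    obtain ⟨h1, y, hy⟩ := (hSspec _ _ _ (x₀ q).2 hp).1 hS
    have := congrArg v.base hy
    rw [hpt, hpt] at this
    obtain rfl : y = ⟨g (η (x₀ q).1), hmem _ _ hp⟩ := Subtype.ext this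
    exact hy.symm
  have hne : ∀ q, (Finset.univ.filter fun m => ep q ∈ Set.range (s m).base).Nonempty := fun q =>
    ⟨a₀ q, Finset.mem_filter.mpr ⟨Finset.mem_univ _, _, rfl⟩⟩
  let j : V → Fin n := fun q => (Finset.univ.filter fun m => ep q ∈ Set.range (s m).base).min' (hne q)
  have hjmem : ∀ q, ep q ∈ Set.range (s (j q)).base := fun q =>
    (Finset.mem_filter.mp (Finset.min'_mem _ (hne q))).2
  refine ⟨n, j, (IsLocallyConstant.iff_exists_open j).2 fun q => ?_, fun q q' hqq hj => ?_⟩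
  · let a := a₀ q
    let p := (x₀ q).1
    have hclopen : ∀ b, IsClopen (g ⁻¹' (S a b)) := fun b => by
      have hO : ∀ c, IsClopen (g ⁻¹' (O c : Set ↥X)) := fun c => by
        exact h.isClopen_basicOpen (algebraMap R K (r' (e.symm c).1))
      refine ⟨?_, (hSopen a b).preimage hgc⟩
      have : g ⁻¹' (S a b) = (g ⁻¹' (O a : Set ↥X) ∩ g ⁻¹' (O b : Set ↥X)) ∩
          (closure (g ⁻¹' (S a b))) := by
        refine Set.Subset.antisymm (fun κ hκ => ⟨⟨hκ.1, hSb a b _ hκ⟩, subset_closure hκ⟩) fun κ ⟨⟨ha, hb⟩, hκ⟩ => ?_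
        by_contra hc
        -- the complement is open
        let U : Set ↥X := (O a).ι.base '' ((s a).base ⁻¹' (Set.range (s b).base ∪ (v.base ⁻¹' (O b : Set ↥X))ᶜ)ᶜ)
        have hU : IsOpen U := (O a).ι.isOpenEmbedding.isOpenMap _ ((hclosed b).isOpen_compl.preimage (s a).continuous)
        have hκU : g κ ∈ U := ⟨⟨g κ, ha⟩, fun hh => hh.elim (fun h1 => hc ⟨ha, h1⟩)
          (fun h2 => h2 (by show v.base ((s a).base ⟨g κ, ha⟩) ∈ (O b : Set ↥X); rw [hpt]; exact hb)), rfl⟩
        obtain ⟨κ', hκ'U, hκ'⟩ := mem_closure_iff.mp hκ _ (hU.preimage hgc) hκU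
        obtain ⟨y, hy, hyx⟩ := hκ'U
        obtain ⟨h1, h2⟩ := hκ'
        obtain rfl : y = ⟨g κ', h1⟩ := Subtype.ext hyx
        exact hy (Or.inl h2)
      rw [this]
      exact ((hO a).inter (hO b)).1.inter isClosed_closure
    have hclo' : ∀ b, IsClopen {κ | g κ ∈ S a b ↔ g (η p) ∈ S a b} := fun b => by
      by_cases hb : g (η p) ∈ S a b
      · simpa [hb, Set.preimage] using hclopen b
      · simpa [hb, Set.compl_def, Set.preimage] using (hclopen b).compl
    obtain ⟨D, hD, hDC⟩ := h.exists_clopen (isClopen_iInter_of_finite hclo')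
    have hpD : p ∈ D := (hη p).mem_closed hD.isClosed (by
      show η p ∈ PrimeSpectrum.comap (algebraMap R K) ⁻¹' D
      rw [hDC]
      simp)
    let N : Set (O a).toScheme := (O a).ι.base ⁻¹' D
    refine ⟨(s a).base '' N, ?_, ⟨x₀ q, hpD, hx₀ q⟩, ?_⟩
    · have h1 : IsOpen N := hD.isOpen.preimage (O a).ι.continuous
      haveI : IsOpenImmersion (s a) := by
        haveI : Etale (s a ≫ v) := by rw [hs]; infer_instance
        haveI := Etale.of_comp (s a) v
        haveI : Mono (s a) := mono_of_mono_fac (hs a)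
        exact IsOpenImmersion.of_flat_of_mono _
      exact (s a).isOpenEmbedding.isOpenMap _ h1
    · rintro q₁ ⟨⟨p₁, hp₁⟩, hp₁D, rfl⟩
      have h1 : η p₁ ∈ PrimeSpectrum.comap (algebraMap R K) ⁻¹' D := (hη p₁).mem_open hD.isOpen hp₁D
      rw [hDC, Set.mem_iInter] at h1
      simp only [j, hep _ a p₁ hp₁ rfl, hep q a p (x₀ q).2 (hx₀ q)]
      congr 1
      ext b
      simp only [Finset.mem_filter, Finset.mem_univ, true_and]
      constructor
      · intro hb
        exact ((h1 b).1 ⟨hmem p₁ a hp₁, hb⟩).2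
      · intro hb
        exact ((h1 b).2 ⟨hmem p a (x₀ q).2, hb⟩).2
  · obtain ⟨y, hy⟩ := hjmem q
    obtain ⟨y', hy'⟩ := hjmem q'
    have h1 := congrArg v.base hy
    have h2 := congrArg v.base hy'
    simp only [ep, hpt] at h1 h2
    have hxx : (x₀ q).1 = (x₀ q').1 := by rw [← hv₀, ← hv₀, hqq]
    have hee : ep q = ep q' := by
      have key : ∀ (a b : Fin n) (ya : (O a).toScheme) (yb : (O b).toScheme), a = b → ya.1 = yb.1 →
          (s a).base ya = (s b).base yb := by
        rintro a _ ya yb rfl hab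
        rw [Subtype.ext hab]
      rw [← hy, ← hy']
      exact key _ _ y y' hj (h1.trans ((congrArg (fun z => g (η z)) hxx).trans h2.symm))
    have hpa : (x₀ q).1 ∈ O (a₀ q') := hxx ▸ (x₀ q').2
    have hS : g (η (x₀ q).1) ∈ S (a₀ q) (a₀ q') := ⟨hmem _ _ (x₀ q).2, by
      show ep q ∈ Set.range (s (a₀ q')).base
      rw [hee]; exact ⟨_, rfl⟩⟩
    obtain ⟨hx, z, hz⟩ := (hSspec _ _ _ (x₀ q).2 hpa).2 hS
    have hz' := congrArg v.base hz
    rw [hpt, hpt] at hz'
    obtain rfl : z = x₀ q' := Subtype.ext (hz'.trans hxx)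
    exact (hx₀ q).symm.trans (hz.symm.trans (hx₀ q'))

end Groth.Agent.EtPBC63.Core
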